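import Cfsg.Agent.Lib.PSpThreeReal.Calc
import Cfsg.Agent.Lib.PSpThree.Amalgam.Main
import Cfsg.Agent.Lib.AutPSp.Count

/-!
# A normal subgroup of index two without the reflections

* `Real.exists_local_of_index_two`: it carries the local configuration of `PSp₄(3)`
* `Real.equiv_aut`: then the group is `Aut PSp₄(3)`
-/

set_option autoImplicit false
set_option maxRecDepth 100000
set_option synthInstance.maxSize 8000
set_option synthInstance.maxHeartbeats 200000

namespace Cfsg.Agent.PSpThreeReal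

open Cfsg Subgroup
open SymNineThree
open PSpThree.Loc (M emb embHom)
open ThreeCubedSymFour (V3)
open Multiplicative (ofAdd toAdd)

theorem sl_word : ∀ A : PSpThree.SL23, ∃ a b c d : PSpThree.K,
    A = PSpThree.upperU ^ a.val * PSpThree.lowerU ^ b.val * PSpThree.upperU ^ c.val *
      PSpThree.lowerU ^ d.val := by decide +kernel

/-- The model is generated by elements of order three. -/
theorem model_top {N : Subgroup M} (h : ∀ m : M, m ^ 3 = 1 → m ∈ N) (m : M) : m ∈ N := by
  rw [← SemidirectProduct.inl_left_mul_inr_right m]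
  refine mul_mem (h _ (by rw [← map_pow, PSpThree.H3.pow_three_eq, map_one])) ?_
  obtain ⟨a, b, c, d, e⟩ := sl_word m.right
  rw [e]
  simp only [map_mul, map_pow]
  have hU := h (SemidirectProduct.inr PSpThree.upperU) (by
    rw [← map_pow, PSpThree.Loc.gens_cube.1, map_one])
  have hL := h (SemidirectProduct.inr PSpThree.lowerU) (by
    rw [← map_pow, PSpThree.Loc.gens_cube.2, map_one])
  exact mul_mem (mul_mem (mul_mem (pow_mem hU _) (pow_mem hL _)) (pow_mem hU _)) (pow_mem hL _)

theorem sign_facts :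
    (Mon.perm 1 false * eA * (Mon.perm 1 false)⁻¹ * (Mon.perm 2 false * eA * (Mon.perm 2 false)⁻¹) = eBC) ∧
    (eA * eBC = negOne) ∧ act negOne ones = -ones ∧ act eBC ones ≠ ones ∧
    inKind 3 negOne = true := by decide +kernel

variable {G : Type*} [Group G] [Finite G] {W : Subgroup Mon} {j : Multiplicative V3 →* G} {s : W →* G}
  {P : Pre G}

/-- The signs in an index two normal subgroup without the reflections. -/
theorem Real.sign_mem (E : Real W j s 3 P) (Mi : Subgroup G) (hn : Mi.Normal) (hi : Mi.index = 2)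
    (hA : el j s 0 eA ∉ Mi) : el j s 0 eBC ∈ Mi ∧ el j s 0 negOne ∉ Mi := by
  have h0 : ∀ a b : Mon, el j s 0 a * el j s 0 b = el j s 0 (a * b) := fun a b => by
    rw [E.el_mul (E.mem rfl) (E.mem rfl), show act a (0 : V3) = 0 from (actAdd a).map_zero, add_zero]
  have hconj : ∀ p : Mon, el j s 0 (p * eA * p⁻¹) ∉ Mi := fun p h => hA (by
    have := hn.conj_mem _ h (el j s 0 p⁻¹)
    have e : (el j s 0 p⁻¹)⁻¹ = el j s 0 p := inv_eq_of_mul_eq_one_left (by
      rw [h0, mul_inv_cancel, el_zero_one])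
    rwa [e, h0, h0, show p⁻¹ * (p * eA * p⁻¹) * p = eA by group] at this)
  obtain ⟨hBC, hN, -⟩ := sign_facts
  have hB : el j s 0 eBC ∈ Mi := by
    rw [← hBC, ← h0, Mi.mul_mem_iff_of_index_two hi]
    exact iff_of_false (hconj _) (hconj _)
  refine ⟨hB, ?_⟩
  rw [← hN, ← h0, Mi.mul_mem_iff_of_index_two hi]
  exact fun h => hA (h.2 hB)

/-- An index two normal subgroup without the reflections has the local configuration. -/
theorem Real.exists_local_of_index_two (E : Real W j s 3 P) (Mi : Subgroup G) (hn : Mi.Normal)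
    (hi : Mi.index = 2) (hA : el j s 0 eA ∉ Mi) :
    ∃ L : PSpThree.Loc.Local Mi, ∀ m, (L.θ m : G) = P.θ m := by
  have hin : ∀ m, P.θ m ∈ Mi := fun m => model_top (N := Mi.comap P.θ) (fun m h3 => by
    have h : (P.θ m) ^ 3 = 1 := by rw [← map_pow, h3, map_one]
    have h2 := Mi.sq_mem_of_index_two hi (P.θ m)
    rw [mem_comap]
    have := mul_mem h2 h2
    rwa [← pow_add, show 2 + 2 = 3 + 1 by rfl, pow_succ, h, one_mul] at this) m
  obtain ⟨hB, hneg⟩ := E.sign_mem Mi hn hi hA
  obtain ⟨-, -, hones, hmove, -⟩ := sign_facts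
  refine ⟨{ θ := P.θ.codRestrict Mi hin, inj := ?_, range := ?_, real := ?_, sig := ?_, fus := ?_ },
    fun m => rfl⟩
  · exact fun a b h => P.inj (congrArg Subtype.val h)
  · rintro ⟨g, hg⟩ hc
    obtain ⟨m, hm⟩ := P.range g (congrArg Subtype.val hc.eq)
    exact ⟨m, Subtype.ext hm⟩
  · rintro ⟨g, hg⟩ he
    have he' : g * P.z * g⁻¹ = P.z⁻¹ := congrArg Subtype.val he
    set t := el j s 0 negOne with ht
    have htz : t * P.z⁻¹ * t⁻¹ = P.z := by
      rw [E.z_eq, E.el_inv (one_mem W), inv_one, act_one, ht, E.el_conj (E.mem rfl)]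
      congr 1
    obtain ⟨m, hm⟩ := P.range (t * g) (mul_inv_eq_iff_eq_mul.1 (by
      show t * g * P.z * (t * g)⁻¹ = P.z
      calc t * g * P.z * (t * g)⁻¹ = t * (g * P.z * g⁻¹) * t⁻¹ := by group
        _ = _ := by rw [he', htz]))
    exact hneg ((Mi.mul_mem_cancel_right hg).1 (hm ▸ hin m))
  · intro N h3 hN
    have h := P.sig (N.map Mi.subtype) (by rwa [card_map_of_injective Mi.subtype_injective]) (by
      rintro x ⟨v, rfl⟩
      have hv := hN ⟨v, rfl⟩
      refine mem_normalizer_iff_map_conj_eq.2 (eq_of_le_of_card_ge ?_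
        (le_of_eq (Nat.card_congr ((N.map Mi.subtype).equivMapOfInjective _ (MulAut.conj _).injective).toEquiv)))
      rintro _ ⟨_, ⟨y, hy, rfl⟩, rfl⟩
      exact ⟨_, (mem_normalizer_iff.1 hv y).1 hy, rfl⟩)
    exact (map_eq_bot_iff_of_injective N Mi.subtype_injective).1 h
  · refine ⟨⟨_, hB⟩, mem_normalizer_iff.2 fun x => ?_, fun hc => hmove ?_⟩
    · have hnorm := mem_normalizer_iff.1 (E.el_mem_normalizer (E.mem rfl : eBC ∈ W) 0) (x : G)
      rw [← E.range_eq] at hnorm
      have hJ : ∀ y : Mi, y ∈ ((P.θ.codRestrict Mi hin).comp embHom).range ↔ (y : G) ∈ P.J := fun y =>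
        ⟨fun ⟨v, hv⟩ => ⟨v, congrArg Subtype.val hv⟩, fun ⟨v, hv⟩ => ⟨v, Subtype.ext hv⟩⟩
      show x ∈ ((P.θ.codRestrict Mi hin).comp embHom).range ↔ _
      rw [hJ, hJ]
      exact hnorm
    · have h : el j s 0 eBC * P.z = P.z * el j s 0 eBC := congrArg Subtype.val hc.eq
      rw [E.z_eq] at h
      exact (E.el_comm_space (E.mem rfl)).1 h

/-- The field automorphisms of the field of order three. -/
theorem card_aut_three {F : Type*} [Field F] [Fintype F] (hF : Fintype.card F = 3) :
    Nat.card (F ≃+* F) = 1 := by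
  haveI : Fact (Nat.Prime 3) := ⟨Nat.prime_three⟩
  let e := ZMod.ringEquivOfPrime F Nat.prime_three hF
  refine Nat.card_eq_one_iff_unique.2 ⟨⟨fun σ τ => RingEquiv.ext fun x => ?_⟩, ⟨RingEquiv.refl F⟩⟩
  obtain ⟨c, rfl⟩ := e.surjective x
  exact RingHom.congr_fun (RingHom.ext_zmod (σ.toRingHom.comp e.toRingHom) (τ.toRingHom.comp e.toRingHom)) c

/-- `|Aut PSp₄(3)| = 2 |PSp₄(3)|` as a bound. -/
theorem card_aut_psp_three {F : Type*} [Field F] [Fintype F] (hF : Fintype.card F = 3) :
    Nat.card (MulAut (Cfsg.PSp 2 F)) = 2 * Nat.card (Cfsg.PSp 2 F) := by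
  haveI : Fact (Nat.Prime 3) := ⟨Nat.prime_three⟩
  haveI : CharP F 3 := charP_of_card_eq_prime hF
  have hall : AutPSp.semiSet 2 F = Set.univ := Set.eq_univ_of_forall fun α =>
    AutPSp.mem_semiSet_of_transPres le_rfl (AutPSp.transPres_all 3 le_rfl (Or.inr (by norm_num)) α)
  rw [← Nat.card_univ, ← hall, AutPSp.card_semiSet (by norm_num), card_aut_three hF, mul_one,
    AutPSp.card_Sp_eq_center_mul (by norm_num), Nat.card_eq_fintype_card, hF]
  rfl

/-- An index two normal subgroup without the reflections: the group is `Aut PSp₄(3)`. -/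
theorem Real.equiv_aut (E : Real W j s 3 P) (Mi : Subgroup G) (hn : Mi.Normal)
    (hi : Mi.index = 2) (hA : el j s 0 eA ∉ Mi) {F : Type*} [Field F] [Fintype F]
    (hF : Fintype.card F = 3) : Nonempty (G ≃* MulAut (Cfsg.PSp 2 F)) := by
  obtain ⟨L, hL⟩ := E.exists_local_of_index_two Mi hn hi hA
  obtain ⟨e⟩ := L.equiv_psp hF
  have hin : ∀ m, P.θ m ∈ Mi := fun m => hL m ▸ (L.θ m).2
  have hB : el j s 0 eBC ∈ Mi := (E.sign_mem Mi hn hi hA).1
  let f : G →* MulAut Mi := MulAut.conjNormal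
  have hf : Function.Injective f := by
    rw [← MonoidHom.ker_eq_bot_iff, eq_bot_iff_forall]
    intro x hx
    have hc : ∀ y ∈ Mi, x * y = y * x := fun y hy => by
      have h : x * y * x⁻¹ = y :=
        congrArg (fun α : MulAut Mi => ((α ⟨y, hy⟩ : Mi) : G)) (MonoidHom.mem_ker.1 hx)
      exact mul_inv_eq_iff_eq_mul.1 h
    have hxJ : x ∈ P.J := P.mem_J_of_commute fun y hy => hc y (by
      obtain ⟨v, rfl⟩ := P.mem_J.1 hy
      exact hin _)
    rcases P.syl_center (P.J_le_syl hxJ) (fun y hy => hc y (by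
      obtain ⟨m, -, rfl⟩ := P.mem_syl.1 hy
      exact hin m)) with h | h | h
    · exact h
    all_goals
      refine absurd ?_ sign_facts.2.2.2.1
      have hc' : el j s 0 eBC * P.z = P.z * el j s 0 eBC := by
        have h1 := (hc _ hB).symm
        rw [h] at h1
        first | exact h1 | exact (Commute.inv_right_iff.1 h1 : Commute _ _).eq
      rw [E.z_eq] at hc'
      exact (E.el_comm_space (E.mem rfl)).1 hc'
  have hcard : Nat.card (MulAut Mi) = Nat.card G := by
    rw [Nat.card_congr (MulAut.congr e).toEquiv, card_aut_psp_three hF, ← Nat.card_congr e.toEquiv, ← hi,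
      mul_comm, card_mul_index]
  exact ⟨(MulEquiv.ofBijective f ((Nat.bijective_iff_injective_and_card f).2 ⟨hf, hcard.symm⟩)).trans
    (MulAut.congr e)⟩

end Cfsg.Agent.PSpThreeReal
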