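import Cfsg.Agent.Lib.PSpThreeReal.Points
import Cfsg.Agent.Lib.SymNineThree.SixLocal

/-!
# The centralizers of the axes in the real case

* `Real.axis_dichotomy`: they are in `N(J)`, or the kernel at the first axis is symmetric of degree six
-/

set_option autoImplicit false
set_option synthInstance.maxSize 8000
set_option synthInstance.maxHeartbeats 200000

namespace Cfsg.Agent.PSpThreeReal

open Cfsg Subgroup
open SymNineThree
open ThreeCubedSymFour (V3)
open Multiplicative (ofAdd toAdd)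

variable {G : Type*} [Group G] [Finite G] {W : Subgroup Mon} {j : Multiplicative V3 →* G} {s : W →* G}
  {P : Pre G}

set_option maxHeartbeats 800000 in
/-- The centralizers of the axes are in `N(J)`, or the kernel at `(1, 0, 0)` is symmetric of degree six. -/
theorem Real.axis_dichotomy (E : Real W j s 3 P) :
    (∀ v : V3, v ≠ 0 → Axis v → centralizer ({el j s v 1} : Set G) ≤ normalizer (j.range : Set G)) ∨
    ∃ L : Subgroup G, L ≤ centralizer ({el j s (1, 0, 0) 1} : Set G) ∧
      centralizer ({el j s (1, 0, 0) 1} : Set G) ≤ normalizer (L : Set G) ∧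
      Nonempty (L ≃* Equiv.Perm (Fin 6)) ∧
      (∀ u : V3, u.1 = 0 → el j s u 1 ∈ L) ∧
      (∀ g ∈ centralizer ({el j s (1, 0, 0) 1} : Set G), g * g = 1 → g ∈ L) ∧
      ∀ g ∈ centralizer ({el j s (1, 0, 0) 1} : Set G), ∃ i : ℕ, ∃ l ∈ L,
        g = el j s (1, 0, 0) 1 ^ i * l := by
  rw [show ((1, 0, 0) : V3) = axA from rfl]
  have : Fact (Nat.Prime 3) := ⟨Nat.prime_three⟩
  obtain ⟨hmul, hone, himg, hB2, -, -⟩ := octMon_facts
  obtain ⟨h3, h9, hv, hker, hsimp, haxis⟩ := axA_stab
  obtain ⟨L, hLC, hn, hloc, hcardP, hLJ, hinv, hdec, hNP, hPN⟩ := E.exists_plane h3 h9 hv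
  set Q := planeSub j (normMap 3 axA axA)
  set C := centralizer ({el j s axA 1} : Set G)
  have hQL : Q ≤ L := hloc.PC
  set S := Q.subgroupOf L
  have hS : ∀ {g : L}, g ∈ S ↔ (g : G) ∈ Q := Iff.rfl
  let Qsyl : Sylow 3 L := (hloc.isPGroup.comap_subtype (K := L)).toSylow hloc.idx
  have hScard : Nat.card S = 9 := by
    rw [Nat.card_congr (subgroupOfEquivOfLe hQL).toEquiv, hcardP]
  have hcentS : centralizer (S : Set L) = S := by
    refine le_antisymm (fun g hg => ?_) (fun g hg h hh => ?_)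
    · obtain ⟨p, hp, z, hz, e⟩ := hloc.self g g.2 fun q hq =>
        (congrArg Subtype.val (hg ⟨q, hQL hq⟩ (hS.2 hq)) :)
      rw [mem_bot.1 hz, mul_one] at e
      exact hS.2 (e ▸ hp)
    · exact Subtype.ext (congrArg Subtype.val (hloc.comm.is_comm.comm ⟨h, hS.1 hh⟩ ⟨g, hS.1 hg⟩) :)
  have hnorm : ∀ g : L, g ∈ normalizer (S : Set L) ↔ (g : G) ∈ normalizer (Q : Set G) := fun g => by
    refine ⟨fun hg => mem_normalizer_iff.2 fun x => ⟨fun hx => ?_, fun hx => ?_⟩,
      fun hg => mem_normalizer_iff.2 fun x => mem_normalizer_iff.1 hg x⟩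
    · exact (mem_normalizer_iff.1 hg ⟨x, hQL hx⟩).1 hx
    · have hxL : x ∈ L := by
        have := L.mul_mem (L.mul_mem (L.inv_mem g.2) (hQL hx)) g.2
        simpa [mul_assoc] using this
      exact (mem_normalizer_iff.1 hg ⟨x, hxL⟩).2 hx
  -- the automizer of the plane
  obtain ⟨μ, hμ⟩ := E.exists_mu
  let ψ : normalizer (S : Set L) →* Mon := μ.comp (MonoidHom.codRestrict
    (L.subtype.comp (normalizer (S : Set L)).subtype) (normalizer (j.range : Set G))
    fun n => hNP _ (hLC (n : L).2) ((hnorm _).1 n.2))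
  have hψform : ∀ n : normalizer (S : Set L), ∃ v, ((n : L) : G) = el j s v (ψ n) ∧ act (ψ n) axA = axA := by
    intro n
    have hN := hNP _ (hLC (n : L).2) ((hnorm _).1 n.2)
    obtain ⟨v, m, hm, e⟩ := E.exists_normal_form hN
    have e' : ψ n = m := by
      rw [← hμ v m hm (e ▸ hN)]
      exact congrArg μ (Subtype.ext e)
    refine ⟨v, by rw [e', ← e], ?_⟩
    rw [e']
    exact (E.mem_cent_el hm).1 (e ▸ hLC (n : L).2)
  let oct : DihedralGroup 4 →* Mon := MonoidHom.mk' octMon hmul
  have hoct : Function.Injective oct := (injective_iff_map_eq_one oct).2 hone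
  have hψmem : ∀ n, ψ n ∈ oct.range := fun n => by
    obtain ⟨v, -, h⟩ := hψform n
    exact (himg _).1 h
  let f : normalizer (S : Set L) →* DihedralGroup 4 :=
    (MonoidHom.ofInjective hoct).symm.toMonoidHom.comp (ψ.codRestrict _ hψmem)
  have hf : ∀ n, oct (f n) = ψ n := fun n =>
    congrArg Subtype.val ((MonoidHom.ofInjective hoct).apply_symm_apply ⟨ψ n, hψmem n⟩)
  have hfk : f.ker = S.subgroupOf (normalizer (S : Set L)) := by
    ext n
    rw [MonoidHom.mem_ker, ← hoct.eq_iff, hf, map_one, mem_subgroupOf, hS]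
    obtain ⟨v, e, -⟩ := hψform n
    constructor
    · intro h
      rw [h] at e
      rw [e]
      exact hLJ _ (el_mem_range v) (e ▸ (n : L).2)
    · intro h
      obtain ⟨u, -, e'⟩ := E.exists_planeSub h
      exact ((E.el_injective (E.mem rfl) (one_mem W) (e.symm.trans e')).2)
  have hfs : Function.Surjective f := by
    have hgen : ∀ d, el j s 0 (octMon d) ∈ L := by
      have hi : ∀ m : Mon, m * m = 1 → act m axA = axA → el j s 0 m ∈ L := fun m h2 hm =>
        hinv _ ((E.mem_cent_el (E.mem rfl)).2 hm) (E.sm_sq (E.mem rfl) h2)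
      have h0 : ∀ m n : Mon, el j s 0 m * el j s 0 n = el j s 0 (m * n) := fun m n => by
        rw [E.el_mul (E.mem rfl) (E.mem rfl), show act m (0 : V3) = 0 from (actAdd m).map_zero, add_zero]
      have htau := hi tau tau_facts.1 axA_acts.2.2.2.2.2.2.2.1
      have hR : ∀ i : ℕ, el j s 0 ((tau * sgnB) ^ i) ∈ L := fun i => by
        induction i with
        | zero => rw [pow_zero, el_zero_one]; exact one_mem L
        | succ i ih =>
          rw [pow_succ, ← h0, ← h0 tau]
          exact mul_mem ih (mul_mem htau (hi sgnB hB2 axA_acts.2.2.2.2.2.1))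
      rintro (i | i)
      · exact hR _
      · show el j s 0 (tau * (tau * sgnB) ^ i.val) ∈ L
        rw [← h0]
        exact mul_mem htau (hR i.val)
    intro d
    have hdP : el j s 0 (octMon d) ∈ normalizer (Q : Set G) :=
      hPN _ (E.el_mem_normalizer (E.mem rfl) 0) (hLC (hgen d))
    refine ⟨⟨(⟨_, hgen d⟩ : L), (hnorm _).2 hdP⟩, hoct ?_⟩
    rw [hf]
    obtain ⟨v, e, -⟩ := hψform ⟨(⟨_, hgen d⟩ : L), (hnorm _).2 hdP⟩
    exact (E.el_injective (E.mem rfl) (E.mem rfl) e).2.symm
  let eN : normalizer (S : Set L) ⧸ S.subgroupOf (normalizer (S : Set L)) ≃* DihedralGroup 4 :=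
    (QuotientGroup.quotientMulEquivOfEq hfk.symm).trans (QuotientGroup.quotientKerEquivOfSurjective f hfs)
  have hcentx : ∀ x ∈ S, x ≠ 1 → centralizer ({x} : Set L) ≤ normalizer (S : Set L) := by
    intro x hx hx1 g hg
    obtain ⟨u, hu, e⟩ := E.exists_planeSub (hS.1 hx)
    have hu0 : u ≠ 0 := fun h => hx1 (Subtype.ext (by rw [e, h, el_zero_one]; rfl))
    refine (hnorm g).2 (hPN _ (E.cent_pair (hsimp u ((hker u).1 hu) hu0) ⟨hLC g.2,
      mem_centralizer_singleton_iff.2 ?_⟩) (hLC g.2))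
    have := congrArg Subtype.val (mem_centralizer_singleton_iff.1 hg)
    rwa [← e]
  rcases S3333.result Qsyl S (IsPGroup.toSylow_coe _ _).symm hScard hcentS eN hcentx with hnorm' | hiso
  · left
    have hC : C ≤ normalizer (j.range : Set G) := by
      intro c hc
      obtain ⟨i, l, hl, rfl⟩ := hdec c hc
      refine mul_mem (le_normalizer (pow_mem (el_mem_range axA) i))
        (hNP l (hLC hl) ((hnorm ⟨l, hl⟩).1 ?_))
      rw [normalizer_eq_top_iff.2 hnorm']
      exact mem_top _
    intro v hv hax g hg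
    obtain ⟨m, hmv⟩ := haxis v hv hax
    have hmW : m ∈ W := E.mem rfl
    have h1 : el j s 0 m * g * (el j s 0 m)⁻¹ ∈ C := by
      refine mem_centralizer_singleton_iff.2 ?_
      rw [← hmv, ← E.el_conj hmW 0]
      exact ((show Commute g (el j s v 1) from mem_centralizer_singleton_iff.1 hg).map
        (MulAut.conj (el j s 0 m)).toMonoidHom).eq
    have hmN := E.el_mem_normalizer hmW 0
    have := mul_mem (mul_mem (inv_mem hmN) (hC h1)) hmN
    simpa [mul_assoc] using this
  · exact Or.inr ⟨L, hLC, hn, hiso, fun u hu => hQL (E.mem_planeSub.2 ((hker u).2 hu)), hinv, hdec⟩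

end Cfsg.Agent.PSpThreeReal
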