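import Cfsg.Agent.Lib.PSpThreeReal.Coord

/-!
# The calculus of the real case

* `Real.el_mul`, `Real.el_conj`, `Real.el_comm_iff`, ...: calculus in `N(J)`
* `Real.range_eq`, `Real.cent_space`: `J` is self-centralizing
* `Real.sig`: `J` leaves no coprime subgroup invariant
* `Real.fusion`: fusion in `J`
* `Real.cent_ones`: the centralizer of the distinguished point is the model
* `Real.three_form`: what remains of a 3-element of `N(J)`
-/

set_option autoImplicit false
set_option synthInstance.maxSize 8000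
set_option synthInstance.maxHeartbeats 200000

namespace Cfsg.Agent.PSpThreeReal

open Cfsg Subgroup
open SymNineThree
open PSpThree.Loc (M emb embHom InJ tM)
open ThreeCubedSymFour (V3)
open Multiplicative (ofAdd toAdd)

variable {G : Type*} [Group G] {W : Subgroup Mon} {j : Multiplicative V3 →* G} {s : W →* G} {k : Fin 4}
  {P : Pre G}

section

variable (E : Real W j s k P)

include E

theorem Real.sm_conj {m : Mon} (hm : m ∈ W) (v : V3) :
    sm s m * j (ofAdd v) = j (ofAdd (act m v)) * sm s m := by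
  rw [sm_mem hm, ← E.conj ⟨m, hm⟩ v, inv_mul_cancel_right]

theorem Real.el_mul {m n : Mon} (hm : m ∈ W) (hn : n ∈ W) (v u : V3) :
    el j s v m * el j s u n = el j s (v + act m u) (m * n) := by
  rw [el, el, el, ofAdd_add, map_mul, sm_mul hm hn]
  calc j (ofAdd v) * sm s m * (j (ofAdd u) * sm s n)
      = j (ofAdd v) * (sm s m * j (ofAdd u)) * sm s n := by group
    _ = j (ofAdd v) * (j (ofAdd (act m u)) * sm s m) * sm s n := by rw [E.sm_conj hm]
    _ = _ := by group

theorem Real.el_inv {m : Mon} (hm : m ∈ W) (v : V3) :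
    (el j s v m)⁻¹ = el j s (-act m⁻¹ v) m⁻¹ := by
  refine inv_eq_of_mul_eq_one_right ?_
  rw [E.el_mul hm (inv_mem hm), mul_inv_cancel]
  have : act m (-act m⁻¹ v) = -v := by
    have h := (actAdd m).map_neg (act m⁻¹ v)
    rw [show actAdd m (-act m⁻¹ v) = act m (-act m⁻¹ v) from rfl] at h
    rw [h]
    show -act m (act m⁻¹ v) = -v
    rw [← act_mul, mul_inv_cancel, act_one]
  rw [this, add_neg_cancel, el_zero_one]

theorem Real.el_injective {m n : Mon} (hm : m ∈ W) (hn : n ∈ W) {v u : V3}
    (h : el j s v m = el j s u n) : v = u ∧ m = n := by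
  have e : m = n := by
    have key : ∀ x, act m x = act n x := fun x => by
      have h1 : el j s v m * el j s x 1 = el j s (v + act m x) m := by
        rw [E.el_mul hm (one_mem W), mul_one]
      have h2 : el j s u n * el j s x 1 = el j s (u + act n x) n := by
        rw [E.el_mul hn (one_mem W), mul_one]
      have h3 : j (ofAdd (act m x)) * el j s v m = j (ofAdd (act n x)) * el j s u n := by
        rw [← el_one_right (s := s), ← el_one_right (s := s), E.el_mul (one_mem W) hm,
          E.el_mul (one_mem W) hn, act_one, act_one, one_mul, one_mul,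
          add_comm (act m x), add_comm (act n x), ← h1, ← h2, h]
      rw [h] at h3
      exact congrArg toAdd (E.inj (mul_right_cancel h3))
    exact act_ext _ _ (key _) (key _) (key _)
  refine ⟨?_, e⟩
  subst e
  exact congrArg toAdd (E.inj (mul_right_cancel h))

theorem Real.el_eq_iff {m n : Mon} (hm : m ∈ W) (hn : n ∈ W) {v u : V3} :
    el j s v m = el j s u n ↔ v = u ∧ m = n :=
  ⟨E.el_injective hm hn, fun ⟨h, h'⟩ => by rw [h, h']⟩

theorem Real.el_eq_one_iff {m : Mon} (hm : m ∈ W) {v : V3} : el j s v m = 1 ↔ v = 0 ∧ m = 1 := by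
  rw [← el_zero_one (j := j) (s := s), E.el_eq_iff hm (one_mem W)]

theorem Real.el_comm_iff {m n : Mon} (hm : m ∈ W) (hn : n ∈ W) {v u : V3} :
    el j s v m * el j s u n = el j s u n * el j s v m ↔
      v + act m u = u + act n v ∧ m * n = n * m := by
  rw [E.el_mul hm hn, E.el_mul hn hm, E.el_eq_iff (mul_mem hm hn) (mul_mem hn hm)]

theorem Real.el_comm_space {m : Mon} (hm : m ∈ W) {v u : V3} :
    el j s v m * el j s u 1 = el j s u 1 * el j s v m ↔ act m u = u := by
  rw [E.el_comm_iff hm (one_mem W), act_one, mul_one, one_mul, add_comm u v, add_right_inj]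
  simp

theorem Real.el_conj {m : Mon} (hm : m ∈ W) (v u : V3) :
    el j s v m * el j s u 1 * (el j s v m)⁻¹ = el j s (act m u) 1 := by
  rw [mul_inv_eq_iff_eq_mul, E.el_mul hm (one_mem W), E.el_mul (one_mem W) hm, act_one, mul_one, one_mul,
    add_comm]

theorem Real.space_cube {g : G} (hg : g ∈ j.range) : g ^ 3 = 1 := by
  obtain ⟨v, rfl⟩ := hg
  rw [← map_pow, show v ^ 3 = 1 from ?_, map_one]
  obtain ⟨v, rfl⟩ : ∃ u : V3, v = ofAdd u := ⟨v.toAdd, rfl⟩
  revert v
  decide +kernel

theorem Real.space_comm : IsMulCommutative j.range := ⟨⟨fun a b => Subtype.ext (by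
  obtain ⟨u, hu⟩ := a.2
  obtain ⟨v, hv⟩ := b.2
  show (a : G) * b = b * a
  rw [← hu, ← hv, ← map_mul, ← map_mul, mul_comm])⟩⟩

theorem Real.space_isPGroup : IsPGroup 3 j.range := fun g =>
  ⟨1, Subtype.ext (by rw [pow_one, SubgroupClass.coe_pow, E.space_cube g.2]; rfl)⟩

theorem Real.card_space : Nat.card j.range = 27 := by
  rw [← Nat.card_congr (MonoidHom.ofInjective E.inj).toEquiv, Nat.card_congr Multiplicative.toAdd]
  simp [Nat.card_prod, Nat.card_zmod]

theorem Real.el_mem_normalizer {m : Mon} (hm : m ∈ W) (v : V3) :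
    el j s v m ∈ normalizer (j.range : Set G) := by
  refine mem_normalizer_iff.2 fun x => ⟨fun hx => ?_, fun hx => ?_⟩
  · obtain ⟨u, rfl⟩ := exists_el (s := s) hx
    rw [E.el_conj hm]
    exact el_mem_range _
  · obtain ⟨u, hu⟩ := exists_el (s := s) hx
    have h2 : x = (el j s v m)⁻¹ * el j s u 1 * ((el j s v m)⁻¹)⁻¹ := by rw [← hu]; group
    rw [h2, E.el_inv hm, E.el_conj (inv_mem hm)]
    exact el_mem_range _

theorem Real.exists_normal_form {g : G} (hg : g ∈ normalizer (j.range : Set G)) :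
    ∃ v m, m ∈ W ∧ g = el j s v m := by
  obtain ⟨v, w, rfl⟩ := E.norm g hg
  exact ⟨v, (w : Mon), w.2, by rw [el, sm_mem w.2]⟩


theorem Real.el_pow  {m : Mon} (hm : m ∈ W) (v : V3) (n : ℕ) :
    ∃ u, el j s v m ^ n = el j s u (m ^ n) := by
  induction n with
  | zero => exact ⟨0, by rw [pow_zero, pow_zero, el_zero_one]⟩
  | succ n ih =>
    obtain ⟨u, hu⟩ := ih
    exact ⟨u + act (m ^ n) v, by rw [pow_succ, hu, E.el_mul (pow_mem hm n) hm, ← pow_succ]⟩

/-- An element of order a power of three has an automizer part of order dividing three. -/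
theorem Real.cube_of_el  {m : Mon} (hm : m ∈ W) {v : V3} {n : ℕ}
    (h : el j s v m ^ 3 ^ n = 1) : m ^ 3 = 1 := by
  obtain ⟨u, hu⟩ := E.el_pow hm v (3 ^ n)
  rw [hu, E.el_eq_one_iff (pow_mem hm _)] at h
  exact cube_of_three_power h.2

end

theorem Real.mem (E : Real W j s k P) {m : Mon} (h : inKind k m = true) : m ∈ W := (E.kind m).2 h

theorem Real.tau_mem (E : Real W j s k P) : tau ∈ W := E.perm 0 true

theorem Real.em_eq (E : Real W j s k P) (v : V3) : P.em (toV v) = el j s v 1 := by
  rw [E.j_eq, el_one_right]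

theorem Real.em_eq' (E : Real W j s k P) (v : PSpThree.Loc.V) : P.em v = el j s (ofV v) 1 := by
  rw [← E.em_eq, toV_ofV]

theorem Real.z_eq (E : Real W j s k P) : P.z = el j s ones 1 := by rw [← E.em_eq, toV_ones]; rfl

theorem Real.range_eq (E : Real W j s k P) : P.J = j.range := by
  refine le_antisymm (fun g hg => ?_) fun g hg => ?_
  · obtain ⟨v, rfl⟩ := P.mem_J.1 hg
    rw [E.em_eq']
    exact el_mem_range _
  · obtain ⟨v, rfl⟩ := exists_el (s := s) hg
    rw [← E.em_eq]
    exact P.em_mem _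

theorem Real.sig (E : Real W j s k P) : Sig j.range ⊤ ⊥ := fun K _ hK h3 => by
  rw [P.sig K h3 (fun g hg => hK (E.range_eq ▸ hg))]

/-- `C(J) = J`. -/
theorem Real.cent_space (E : Real W j s k P) {g : G} (h : ∀ u, g * el j s u 1 = el j s u 1 * g) :
    g ∈ j.range := by
  rw [← E.range_eq]
  refine P.mem_J_of_commute fun x hx => ?_
  obtain ⟨v, rfl⟩ := exists_el (s := s) (E.range_eq ▸ hx : x ∈ j.range)
  exact h v

/-- The centralizer of the distinguished point. -/
theorem Real.cent_ones (E : Real W j s k P) {g : G} :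
    g ∈ centralizer ({el j s ones 1} : Set G) ↔ ∃ m : M, P.θ m = g := by
  rw [mem_centralizer_singleton_iff, ← E.z_eq]
  exact ⟨fun h => P.range g h, fun ⟨m, hm⟩ => hm ▸ (P.commute_z m).eq⟩

/-- An element of order dividing three of `N(J)` outside `J` permutes the blocks cyclically. -/
theorem Real.three_form (E : Real W j s k P) {m : Mon} (hm : m ∈ W) {v : V3} {n : ℕ}
    (h : el j s v m ^ 3 ^ n = 1) : m * m * m = 1 := by
  rw [← E.cube_of_el hm h, pow_succ, pow_two]

/-- Fusion in `J`. -/
theorem Real.fusion [Finite G] (E : Real W j s k P) {u v : V3} {g : G}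
    (h : g * el j s u 1 * g⁻¹ = el j s v 1) : ∃ m, m ∈ W ∧ act m u = v := by
  obtain ⟨c, hc, hcu⟩ := P.fusion (E.range_eq.symm ▸ el_mem_range u) (E.range_eq.symm ▸ el_mem_range v) h
  rw [E.range_eq] at hc
  obtain ⟨w, m, hm, rfl⟩ := E.exists_normal_form hc
  rw [E.el_conj hm] at hcu
  exact ⟨m, hm, (E.el_injective (one_mem W) (one_mem W) hcu).1⟩

end Cfsg.Agent.PSpThreeReal
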