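import Cfsg.Agent.Lib.PSpThreeReal.Pre
import Cfsg.Agent.Lib.SymNineThree.Setup
import Cfsg.Agent.Lib.SymNineThree.Basics
import Cfsg.Agent.Lib.SymNineThree.CentTau

/-!
# Coordinates in the real case

* `Real W j s k P`: monomial coordinates on `N(J)` compatible with the copy `P` of the centralizer
* `exists_real`: they exist when the distinguished element is conjugate to its inverse
-/

set_option autoImplicit false
set_option maxHeartbeats 1000000
set_option maxRecDepth 100000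
set_option synthInstance.maxSize 8000
set_option synthInstance.maxHeartbeats 200000

namespace Cfsg.Agent.PSpThreeReal

open Cfsg Subgroup
open PSpThree PSpThree.Loc
open SymNineThree
open ThreeCubedSymFour (V3)
open Multiplicative (ofAdd toAdd)

/-- Monomial coordinates in those of the model. -/
def toV (v : V3) : V := (-v.2.1 - v.2.2, v.2.1 - v.2.2, -v.1 - v.2.1 - v.2.2)

/-- Coordinates of the model in monomial ones. -/
def ofV (v : V) : V3 := (v.1 - v.2.2, v.1 - v.2.1, v.1 + v.2.1)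

theorem toV_ofV : ∀ v, toV (ofV v) = v := by decide +kernel

theorem ofV_toV : ∀ v, ofV (toV v) = v := by decide +kernel

theorem toV_add : ∀ v w, toV (v + w) = toV v + toV w := by decide +kernel

theorem toV_zero : toV 0 = 0 := by decide +kernel

theorem toV_ones : toV ones = (1, 0, 0) := by decide +kernel

theorem toV_tau : ∀ v, toV (act tau v) = tL (toV v) := by decide +kernel

theorem toV_shear : ∀ β v, ((toV v).1 + -β * (toV v).2.2, (toV v).2.1, (toV v).2.2) = toV (shear β v) := by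
  decide +kernel

/-- A lift of a permutation matrix. -/
def permM (r : ZMod 3) (b : Bool) : M := gM ^ r.val * if b then tM else 1

theorem permM_conj : ∀ r b v, permM r b * emb (toV v) = emb (toV (act (Mon.perm r b) v)) * permM r b := by
  decide +kernel

theorem permM_mul : ∀ r b r' b', permM r b * permM r' b' =
    permM (Mon.perm r b * Mon.perm r' b').r (Mon.perm r b * Mon.perm r' b').w := by decide +kernel

theorem permM_zero : permM 0 false = 1 := by decide +kernel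

theorem normal_form : ∀ m : M, InJ (m * emb (0, 1, 0) * m⁻¹) → InJ (m * emb (0, 0, 1) * m⁻¹) →
    ∃ r b, InJ (m * (permM r b)⁻¹) := by decide +kernel

theorem involution_tau_aux : ∀ w : V, w + tL w = 0 → ∃ u : V, emb u * tM * (emb u)⁻¹ = emb w * tM := by
  decide +kernel

theorem involution_tau (m : M) (h : m * m = 1) (hc : ∀ v, m * emb v = emb (tL v) * m) :
    ∃ u : V, emb u * tM * (emb u)⁻¹ = m := by
  have ht : tM * tM = 1 := tM_sq
  have hJ : InJ (m * tM) := by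
    refine inJ_cent _ ?_ ?_
    all_goals
      rw [mul_assoc, tM_conj, ← mul_assoc, hc, mul_assoc]
      congr 1
  obtain ⟨w, hw⟩ := exists_emb _ hJ
  have e : m = emb w * tM := by rw [hw, mul_assoc, ht, mul_one]
  have h0 : w + tL w = 0 := emb_inj _ _ (by
    rw [emb_add, show emb 0 = (1 : M) by decide +kernel]
    calc emb w * emb (tL w) = emb w * (emb (tL w) * tM) * tM := by
          simp only [mul_assoc]
          rw [ht, mul_one]
      _ = m * m := by rw [← tM_conj, e]; simp only [mul_assoc]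
      _ = 1 := h)
  rw [e]
  exact involution_tau_aux w h0

/-- The real case. -/
structure Real {G : Type*} [Group G] (W : Subgroup Mon) (j : Multiplicative V3 →* G) (s : W →* G) (k : Fin 4)
    (P : Pre G) : Prop where
  inj : Function.Injective j
  conj : ∀ (w : W) (v : V3), s w * j (ofAdd v) * (s w)⁻¹ = j (ofAdd (act (w : Mon) v))
  norm : ∀ g : G, g ∈ normalizer (j.range : Set G) → ∃ (v : V3) (w : W), g = j (ofAdd v) * s w
  perm : ∀ r b, Mon.perm r b ∈ W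
  stab : ∀ w ∈ W, act w ones = ones → ∃ r b, w = Mon.perm r b
  j_eq : ∀ v, P.em (toV v) = j (ofAdd v)
  tau_eq : P.θ tM = el j s 0 tau
  kind : ∀ m, m ∈ W ↔ inKind k m = true

universe u

theorem emb_conj (u v : V) : emb u * emb v * (emb u)⁻¹ = emb v := by
  rw [← emb_add, add_comm, emb_add, mul_inv_cancel_right]

/-- The copy of the model adjusted to the frame and to the complement. -/
theorem exists_adjusted {G : Type u} [Group G] (P : Pre G) (β : ZMod 3) {j : Multiplicative V3 →* G}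
    (hones : j (ofAdd ones) = P.z) (hjv : ∀ v, j (ofAdd v) = P.θ (emb (toV (shear β v)))) (g : G)
    (hg2 : g * g = 1) (hg : ∀ v, g * j (ofAdd v) = j (ofAdd (act tau v)) * g) :
    ∃ P' : Pre G, (∀ v, P'.em (toV v) = j (ofAdd v)) ∧ P'.θ tM = g ∧ P'.z = P.z := by
  have hsurj : Function.Surjective (twist (-β)) :=
    Finite.injective_iff_surjective.1 (twist_injective _)
  obtain ⟨θ₁, hθ₁⟩ : ∃ f : M →* G, ∀ x, f x = P.θ (twist (-β) x) :=
    ⟨P.θ.comp (twist (-β)), fun _ => rfl⟩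
  have hinj : Function.Injective θ₁ := fun x y h => twist_injective (-β) (P.inj (by rwa [← hθ₁, ← hθ₁]))
  have hjm : ∀ v, θ₁ (emb (toV v)) = j (ofAdd v) := fun v => by
    rw [hθ₁, twist_emb, hjv, toV_shear]
  have hz : θ₁ (emb (1, 0, 0)) = P.z := by rw [← toV_ones, hjm, hones]
  obtain ⟨n, hn⟩ := P.range g (by
    show Commute g P.z
    rw [← hones]
    have h := hg ones
    rw [show act tau ones = ones from tau_facts.2.1] at h
    exact h)
  obtain ⟨m, rfl⟩ := hsurj n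
  have hm : θ₁ m = g := (hθ₁ m).trans hn
  obtain ⟨u, hu⟩ : ∃ u : V, emb u * tM * (emb u)⁻¹ = m := by
    refine involution_tau m (hinj ?_) fun v => hinj ?_
    · rw [map_mul, map_one, hm, hg2]
    · have h1 := hg (ofV v)
      rw [← hjm, ← hjm, toV_tau, toV_ofV] at h1
      rw [map_mul, map_mul, hm]
      exact h1
  obtain ⟨θ₂, hθ₂⟩ : ∃ f : M →* G, ∀ x, f x = θ₁ (emb u * x * (emb u)⁻¹) :=
    ⟨θ₁.comp (MulAut.conj (emb u)).toMonoidHom, fun _ => rfl⟩
  have hem : ∀ v, θ₂ (emb v) = θ₁ (emb v) := fun v => by rw [hθ₂, emb_conj]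
  refine ⟨⟨θ₂, fun x y h => ?_, fun y hy => ?_, fun K h3 hK => P.sig K h3 ?_⟩, fun v => ?_, ?_, ?_⟩
  · rw [hθ₂, hθ₂] at h
    exact mul_left_cancel (mul_right_cancel (hinj h))
  · rw [hem, hz] at hy
    obtain ⟨n, rfl⟩ := P.range y hy
    obtain ⟨n', rfl⟩ := hsurj n
    refine ⟨(emb u)⁻¹ * n' * emb u, ?_⟩
    rw [hθ₂, show emb u * ((emb u)⁻¹ * n' * emb u) * (emb u)⁻¹ = n' by group, hθ₁]
  · refine le_trans ?_ hK
    rintro g' ⟨v, rfl⟩
    refine ⟨ofAdd (toV (shear (-β) (ofV v.toAdd))), ?_⟩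
    rw [MonoidHom.comp_apply, MonoidHom.comp_apply, embHom, MonoidHom.mk'_apply,
      toAdd_ofAdd, hem, hjm, hjv, shear_shear', toV_ofV]
  · rw [Pre.em, hem, hjm]
  · rw [hθ₂, hu, hm]
  · rw [Pre.z, Pre.em, hem, hz]

/-- The coordinates of the real case. -/
theorem exists_real {G : Type u} [Group G] [Finite G] (P : Pre G)
    (hreal : ∃ g : G, g * P.z * g⁻¹ = P.z⁻¹) :
    ∃ (W : Subgroup Mon) (j : Multiplicative V3 →* G) (s : W →* G) (k : Fin 4) (P' : Pre G),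
      (k = 1 ∨ k = 3) ∧ Real W j s k P' ∧ P'.z = P.z := by
  classical
  set J := P.J with hJdef
  set x := P.z with hxdef
  let j₀ : Multiplicative V3 →* G := MonoidHom.mk' (fun v => P.em (toV v.toAdd)) fun v w => by
    rw [toAdd_mul, toV_add, Pre.em, Pre.em, Pre.em, emb_add, map_mul]
  have hj₀ : ∀ v, j₀ (ofAdd v) = P.θ (emb (toV v)) := fun v => rfl
  have hjθ : j₀ (ofAdd ones) = P.θ (emb (1, 0, 0)) := by rw [hj₀, toV_ones]
  have hinj₀ : Function.Injective j₀ := fun a b h => by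
    have := congrArg ofV (P.em_inj h)
    rw [ofV_toV, ofV_toV] at this
    exact Multiplicative.toAdd.injective this
  have hrange : j₀.range = J := by
    refine le_antisymm ?_ fun g hg => ?_
    · rintro _ ⟨v, rfl⟩
      exact P.em_mem _
    · obtain ⟨v, rfl⟩ := P.mem_J.1 hg
      exact ⟨ofAdd (ofV v), by rw [hj₀, toV_ofV]; rfl⟩
  have hjones₀ : j₀ (ofAdd ones) = x := hjθ
  -- an inverter in `N(J)`
  obtain ⟨g₀, hg₀⟩ := hreal
  obtain ⟨ι, hιN, hιinv⟩ := P.fusion (P.em_mem (1, 0, 0)) (inv_mem (P.em_mem (1, 0, 0))) hg₀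
  have hι : ι * x = x⁻¹ * ι := mul_inv_eq_iff_eq_mul.1 hιinv
  let t : Mon → G := fun m => P.θ (permM m.r m.w)
  have hconj₀ : ∀ r b, ∀ v, t (Mon.perm r b) * j₀ (ofAdd v) =
      j₀ (ofAdd (act (Mon.perm r b) v)) * t (Mon.perm r b) := fun r b v => by
    rw [hj₀, hj₀, ← map_mul, ← map_mul, permM_conj]
    rfl
  have hmul₀ : ∀ r b r' b', t (Mon.perm r b) * t (Mon.perm r' b') = t (Mon.perm r b * Mon.perm r' b') :=
    fun r b r' b' => by rw [← map_mul, permM_mul]; rfl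
  set N := normalizer (J : Set G)
  have hfull : ∀ g : G, g ∈ N → g * x = x * g → ∃ v r b, g = j₀ (ofAdd v) * t (Mon.perm r b) := by
    intro g hgN hg
    obtain ⟨m, rfl⟩ := P.range g hg
    have hin : ∀ v, InJ (m * emb v * m⁻¹) := fun v => by
      obtain ⟨w, hw⟩ := P.mem_J.1 ((mem_normalizer_iff.1 hgN _).1 (P.em_mem v))
      have : m * emb v * m⁻¹ = emb w := P.inj (by rw [map_mul, map_mul, map_inv]; exact hw.symm)
      rw [this]; exact inJ_emb w
    obtain ⟨r, b, hJm⟩ := normal_form m (hin _) (hin _)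
    obtain ⟨w, hw⟩ := exists_emb _ hJm
    refine ⟨ofV w, r, b, ?_⟩
    rw [hj₀, toV_ofV, hw, map_mul, map_inv]
    exact (inv_mul_cancel_right _ _).symm
  have hcx : ∀ g : G, g * j₀ (ofAdd ones) = j₀ (ofAdd ones) * g ↔ g * x = x * g := fun g => by rw [hjones₀]
  have hιx : ¬ ι * j₀ (ofAdd ones) = j₀ (ofAdd ones) * ι := by
    rw [hjones₀, hι, mul_left_inj]
    exact fun h => P.z_ne_inv h.symm
  -- the linear maps
  let WF : Set (V3 →+ V3) := {f | ∃ g ∈ N, ∀ v, g * j₀ (ofAdd v) = j₀ (ofAdd (f v)) * g}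
  have hfun : ∀ g ∈ N, ∃ f : V3 →+ V3, ∀ v, g * j₀ (ofAdd v) = j₀ (ofAdd (f v)) * g := by
    intro g hg
    have h1 : ∀ v, ∃ v' : V3, g * j₀ (ofAdd v) * g⁻¹ = j₀ (ofAdd v') := fun v => by
      obtain ⟨u, hu⟩ := hrange.symm ▸ ((mem_normalizer_iff.1 hg _).1 (hrange ▸ ⟨_, rfl⟩ : j₀ (ofAdd v) ∈ J))
      exact ⟨u.toAdd, hu.symm⟩
    choose f hf using h1
    refine ⟨AddMonoidHom.mk' f fun a b => congrArg toAdd (hinj₀ ?_), fun v => ?_⟩
    · show j₀ (ofAdd (f (a + b))) = j₀ (ofAdd (f a + f b))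
      rw [← hf, ofAdd_add, map_mul, ofAdd_add, map_mul, ← hf, ← hf]
      group
    · show g * j₀ (ofAdd v) = j₀ (ofAdd (f v)) * g
      rw [← hf, inv_mul_cancel_right]
  have huniq : ∀ (f f' : V3 → V3) (g : G), (∀ v, g * j₀ (ofAdd v) = j₀ (ofAdd (f v)) * g) →
      (∀ v, g * j₀ (ofAdd v) = j₀ (ofAdd (f' v)) * g) → ∀ v, f v = f' v := fun f f' g h h' v =>
    congrArg toAdd (hinj₀ (mul_right_cancel ((h v).symm.trans (h' v))))
  have htN : ∀ r b, t (Mon.perm r b) ∈ N := fun r b => by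
    refine mem_normalizer_iff_map_conj_eq.2 (eq_of_le_of_card_ge ?_
      (by rw [card_map_of_injective (MulAut.conj _).injective]))
    rintro _ ⟨z, hz, rfl⟩
    obtain ⟨v, rfl⟩ := hrange.symm ▸ hz
    refine hrange ▸ ⟨ofAdd (act (Mon.perm r b) v.toAdd), ?_⟩
    show _ = t (Mon.perm r b) * j₀ (ofAdd v.toAdd) * (t (Mon.perm r b))⁻¹
    rw [hconj₀, mul_inv_cancel_right]
  have hW : Act WF := by
    refine ⟨?_, ?_, fun r b => ⟨_, htN r b, fun v => hconj₀ r b v⟩, ?_⟩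
    · rintro f ⟨g, hg, hf⟩ f' ⟨g', hg', hf'⟩
      refine ⟨g * g', mul_mem hg hg', fun v => ?_⟩
      show g * g' * j₀ (ofAdd v) = j₀ (ofAdd (f (f' v))) * (g * g')
      rw [mul_assoc, hf', ← mul_assoc, hf, mul_assoc]
    · rintro f ⟨g, hg, hf⟩
      obtain ⟨f', hf'⟩ := hfun g⁻¹ (inv_mem hg)
      refine ⟨f', ⟨g⁻¹, inv_mem hg, hf'⟩, AddMonoidHom.ext fun v => ?_, AddMonoidHom.ext fun v => ?_⟩
      · refine huniq (fun v => f' (f v)) id (g⁻¹ * g) (fun v => ?_) (fun v => by simp) v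
        rw [mul_assoc, hf, ← mul_assoc, hf', mul_assoc]
      · refine huniq (fun v => f (f' v)) id (g * g⁻¹) (fun v => ?_) (fun v => by simp) v
        rw [mul_assoc, hf', ← mul_assoc, hf, mul_assoc]
    · rintro f ⟨g, hg, hf⟩ h1
      have h2 := hf ones
      rw [h1] at h2
      obtain ⟨v, r, b, rfl⟩ := hfull g hg ((hcx g).1 h2)
      refine ⟨r, b, AddMonoidHom.ext fun u => ?_⟩
      refine huniq f (act (Mon.perm r b)) _ hf (fun u => ?_) u
      rw [mul_assoc, hconj₀, ← mul_assoc, ← mul_assoc, ← map_mul j₀, ← map_mul j₀, mul_comm (ofAdd v)]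
  obtain ⟨β, hβ⟩ := hW.exists_frame
  let j : Multiplicative V3 →* G := j₀.comp (AddMonoidHom.toMultiplicative (shearAdd β))
  have hjv : ∀ v, j (ofAdd v) = j₀ (ofAdd (shear β v)) := fun v => rfl
  have hinj : Function.Injective j := fun a b h => by
    have h1 := congrArg toAdd (hinj₀ h)
    have h2 : shear (-β) (shear β a.toAdd) = shear (-β) (shear β b.toAdd) := congrArg (shear (-β)) h1
    rw [shear_shear, shear_shear] at h2
    exact Multiplicative.toAdd.injective h2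
  have hjr : j.range = J := by
    rw [← hrange]
    refine le_antisymm ?_ ?_
    · rintro _ ⟨v, rfl⟩; exact ⟨_, rfl⟩
    · rintro _ ⟨v, rfl⟩
      exact ⟨ofAdd (shear (-β) v.toAdd), by rw [hjv, shear_shear']; rfl⟩
  have hmu : ∀ g ∈ N, ∃ m : Mon, ∀ v, g * j (ofAdd v) = j (ofAdd (act m v)) * g := by
    intro g hg
    obtain ⟨f, hf⟩ := hfun g hg
    obtain ⟨m, hm⟩ := hβ f ⟨g, hg, hf⟩
    exact ⟨m, fun v => by rw [hjv, hjv, hf, hm]⟩
  have mu_uniq : ∀ (m m' : Mon) (g : G), (∀ v, g * j (ofAdd v) = j (ofAdd (act m v)) * g) →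
      (∀ v, g * j (ofAdd v) = j (ofAdd (act m' v)) * g) → m = m' := fun m m' g h h' =>
    have e : ∀ v, act m v = act m' v := fun v =>
      congrArg toAdd (hinj (mul_right_cancel ((h v).symm.trans (h' v))))
    act_ext _ _ (e _) (e _) (e _)
  choose mu hmu using hmu
  have hone : ∀ v, act 1 v = v := act_one
  let μ : N →* Mon :=
    { toFun := fun g => mu g g.2
      map_one' := mu_uniq _ _ (1 : G) (fun v => hmu _ _ v) (fun v => by rw [one_mul, hone, mul_one])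
      map_mul' := fun a b => mu_uniq _ _ ((a : G) * b) (fun v => hmu _ _ v) (fun v => by
        rw [mul_assoc, hmu _ b.2, ← mul_assoc, hmu _ a.2, act_mul, mul_assoc]) }
  have hμ : ∀ (g : N) (v : V3), (g : G) * j (ofAdd v) = j (ofAdd (act (μ g) v)) * g := fun g v => hmu _ _ v
  set W := μ.range
  have hperm : ∀ r b, μ ⟨t (Mon.perm r b), htN r b⟩ = Mon.perm r b := fun r b =>
    mu_uniq _ _ (t (Mon.perm r b)) (hμ ⟨_, htN r b⟩) fun v => by rw [hjv, hconj₀, hjv, shear_perm]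
  have hWp : ∀ r b, Mon.perm r b ∈ W := fun r b => ⟨_, hperm r b⟩
  have hjones : j (ofAdd ones) = j₀ (ofAdd ones) := by rw [hjv, shear_ones]
  have hcent : ∀ g : G, g ∈ N → g * j (ofAdd ones) = j (ofAdd ones) * g → ∃ hg : g ∈ N,
      (∃ v r b, g = j (ofAdd v) * t (Mon.perm r b) ∧ μ ⟨g, hg⟩ = Mon.perm r b) := by
    intro g hgN0 hg
    rw [hjones, hcx] at hg
    obtain ⟨v, r, b, rfl⟩ := hfull g hgN0 hg
    obtain ⟨v', hv'⟩ : j₀ (ofAdd v) ∈ j.range := by rw [hjr, ← hrange]; exact ⟨_, rfl⟩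
    have hgN : j₀ (ofAdd v) * t (Mon.perm r b) ∈ N :=
      mul_mem (le_normalizer (hrange ▸ ⟨_, rfl⟩)) (htN r b)
    refine ⟨hgN, v'.toAdd, r, b, by rw [← hv']; rfl, ?_⟩
    refine mu_uniq _ _ _ (hμ ⟨_, hgN⟩) fun u => ?_
    show j₀ (ofAdd v) * t (Mon.perm r b) * j (ofAdd u) = j (ofAdd (act (Mon.perm r b) u)) * (j₀ (ofAdd v) * t (Mon.perm r b))
    rw [← hv', mul_assoc, show t (Mon.perm r b) * j (ofAdd u) = j (ofAdd (act (Mon.perm r b) u)) * t (Mon.perm r b) by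
      rw [hjv, hconj₀, hjv, shear_perm], ← mul_assoc, ← mul_assoc, ← map_mul j, ← map_mul j, mul_comm v']
  have hstab : ∀ w ∈ W, act w ones = ones → ∃ r b, w = Mon.perm r b := by
    rintro _ ⟨g, rfl⟩ h
    obtain ⟨_, v, r, b, -, e⟩ := hcent (g : G) g.2 (by rw [hμ g, h])
    exact ⟨r, b, e⟩
  have hker : ∀ g : N, μ g = 1 → ∃ v, (g : G) = j (ofAdd v) := by
    intro g h
    obtain ⟨_, v, r, b, e, e'⟩ := hcent (g : G) g.2 (by rw [hμ g, h, hone])
    have h1 : Mon.perm r b = 1 := e'.symm.trans h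
    obtain ⟨rfl, rfl⟩ : r = 0 ∧ b = false := by clear * - h1; revert r b; decide +kernel
    have : t (Mon.perm 0 false) = 1 := by
      have h2 := hmul₀ 0 false 0 false
      rwa [show Mon.perm 0 false * Mon.perm 0 false = Mon.perm 0 false by decide +kernel, mul_eq_left] at h2
    exact ⟨v, by rw [e, this, mul_one]⟩
  -- a complement
  obtain ⟨Mc, hMN, hMJ, hMW⟩ : ∃ Mc : Subgroup G, Mc ≤ N ∧ (∀ v, j (ofAdd v) ∈ Mc → v = 0) ∧
      ∀ w ∈ W, ∃ g : N, (g : G) ∈ Mc ∧ μ g = w := by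
    obtain ⟨w0, hw0, hw0x⟩ : ∃ w0 ∈ W, act w0 ones ≠ ones := ⟨_, ⟨⟨ι, hιN⟩, rfl⟩, fun h => by
      have h1 := hμ ⟨ι, hιN⟩ ones
      rw [h, hjones] at h1
      exact hιx h1⟩
    let D : Subgroup Mon :=
      { carrier := {m | m ∈ W ∧ m.r = 0 ∧ m.w = false}
        one_mem' := ⟨one_mem W, rfl, rfl⟩
        mul_mem' := fun {a b} ha hb => ⟨mul_mem ha.1 hb.1, by
          have key : ∀ a b : Mon, a.r = 0 → a.w = false → b.r = 0 → b.w = false →
              (a * b).r = 0 ∧ (a * b).w = false := by decide +kernel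
          exact key a b ha.2.1 ha.2.2 hb.2.1 hb.2.2⟩
        inv_mem' := fun {a} ha => by
          rw [inv_eq_of_mul_eq_one_right (diag_two a ha.2.1 ha.2.2)]; exact ha }
    obtain ⟨d, hd, hd1⟩ : ∃ d ∈ D, d ≠ 1 := by
      refine ⟨w0 * (Mon.perm w0.r w0.w)⁻¹,
        ⟨mul_mem hw0 (inv_mem (hWp _ _)), diag_part w0 _ _ rfl⟩, fun h => hw0x ?_⟩
      rw [mul_inv_eq_one] at h
      rw [h]
      generalize w0.r = r, w0.w = b
      revert r b; decide +kernel
    let T₀ : Subgroup N := D.comap μ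
    haveI : T₀.Normal := ⟨fun a ha g => by
      show μ (g * a * g⁻¹) ∈ D
      rw [map_mul, map_mul, map_inv]
      exact ⟨mul_mem (mul_mem ⟨g, rfl⟩ ha.1) (inv_mem ⟨g, rfl⟩),
        diag_conj _ _ ha.2.1 ha.2.2⟩⟩
    haveI : Fact (Nat.Prime 2) := ⟨Nat.prime_two⟩
    obtain ⟨Q⟩ := (inferInstance : Nonempty (Sylow 2 T₀))
    let μ₀ : T₀ →* D := (μ.comp T₀.subtype).codRestrict D fun a => a.2
    have hμ₀ : Function.Surjective μ₀ := by
      rintro ⟨m, hm⟩
      obtain ⟨g, rfl⟩ := hm.1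
      exact ⟨⟨g, hm⟩, rfl⟩
    have hD2 : IsPGroup 2 D := fun a => ⟨1, Subtype.ext (by
      rw [pow_one, SubgroupClass.coe_pow, pow_two]; exact diag_two _ a.2.2.1 a.2.2.2)⟩
    have hQtop : (Q : Subgroup T₀).map μ₀ = ⊤ := by
      have h1 : ((Q.mapSurjective hμ₀ : Sylow 2 D) : Subgroup D) = ⊤ :=
        ((Q.mapSurjective hμ₀).is_maximal' (hD2.to_subgroup ⊤) le_top).symm
      exact h1
    set Q' : Subgroup N := (Q : Subgroup T₀).map T₀.subtype
    let Mc : Subgroup G := (normalizer (Q' : Set N)).map N.subtype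
    refine ⟨Mc, map_subtype_le _, ?_, ?_⟩
    · rintro v ⟨g, hg, e⟩
      by_contra hv
      obtain ⟨r, hr⟩ := diag_moves d hd.2.1 hd.2.2 hd1 v hv
      have hmem : Mon.perm r false * d * (Mon.perm r false)⁻¹ ∈ D :=
        ⟨mul_mem (mul_mem (hWp _ _) hd.1) (inv_mem (hWp _ _)), diag_conj _ _ hd.2.1 hd.2.2⟩
      obtain ⟨q, hq, hqe⟩ := (hQtop.symm ▸ mem_top (⟨_, hmem⟩ : D) : (⟨_, hmem⟩ : D) ∈ (Q : Subgroup T₀).map μ₀)
      have hqμ : μ (q : N) = Mon.perm r false * d * (Mon.perm r false)⁻¹ := congrArg Subtype.val hqe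
      have hqQ : (q : N) ∈ Q' := ⟨q, hq, rfl⟩
      have h1 : (q : N) * g * (q : N)⁻¹ * g⁻¹ ∈ Q' := by
        have := mul_mem hqQ ((mem_normalizer_iff.1 hg _).1 (inv_mem hqQ))
        simpa [mul_assoc] using this
      obtain ⟨p, hp, hpe⟩ := h1
      have hval : ((p : N) : G) = j (ofAdd (act (μ (q : N)) v - v)) := by
        rw [show (p : N) = (q : N) * g * (q : N)⁻¹ * g⁻¹ from hpe]
        show ((q : N) : G) * (g : G) * ((q : N) : G)⁻¹ * (g : G)⁻¹ = _
        rw [show (g : G) = j (ofAdd v) from e, hμ, mul_inv_cancel_right, ofAdd_sub, map_div, div_eq_mul_inv]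
      have h2 : p = 1 := by
        obtain ⟨k, hk⟩ := Q.isPGroup' ⟨p, hp⟩
        have hk' : p ^ 2 ^ k = 1 := congrArg Subtype.val hk
        have h3 : p ^ 3 = 1 := by
          refine Subtype.ext (Subtype.ext ?_)
          rw [SubgroupClass.coe_pow, SubgroupClass.coe_pow, hval, ← map_pow]
          show j _ = 1
          rw [show (ofAdd (act (μ (q : N)) v - v)) ^ 3 = 1 from ?_, map_one]
          generalize act (μ (q : N)) v - v = u
          revert u; decide +kernel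
        have := pow_gcd_eq_one.2 ⟨hk', h3⟩
        rwa [show Nat.gcd (2 ^ k) 3 = 1 from Nat.Coprime.pow_left k (by norm_num), pow_one] at this
      rw [h2] at hval
      have h4 : ofAdd (act (μ (q : N)) v - v) = 1 := hinj (by rw [map_one, ← hval]; rfl)
      rw [hqμ] at h4
      exact hr (sub_eq_zero.1 (congrArg toAdd h4))
    · rintro _ ⟨g, rfl⟩
      have hg : g ∈ normalizer (Q' : Set N) ⊔ T₀ := by
        rw [sup_comm, show T₀ ⊔ normalizer (Q' : Set N) = ⊤ from ?_]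
        · exact mem_top g
        · rw [sup_comm]; exact Sylow.normalizer_sup_eq_top Q
      obtain ⟨n, hn, u, hu, rfl⟩ : ∃ n ∈ normalizer (Q' : Set N), ∃ u ∈ T₀, n * u = g :=
        mem_sup_of_normal_right.1 hg
      obtain ⟨q, hq, hqe⟩ := (hQtop.symm ▸ mem_top (⟨μ u, hu⟩ : D) : (⟨μ u, hu⟩ : D) ∈ (Q : Subgroup T₀).map μ₀)
      refine ⟨n * (q : N), ⟨_, mul_mem hn (le_normalizer ⟨q, hq, rfl⟩), rfl⟩, ?_⟩
      rw [map_mul, map_mul, show μ (q : N) = μ u from congrArg Subtype.val hqe]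
  have hsec : ∀ w : W, ∃! g : G, g ∈ Mc ∧ ∃ hg : g ∈ N, μ ⟨g, hg⟩ = (w : Mon) := by
    intro w
    obtain ⟨g, hgM, hge⟩ := hMW w w.2
    refine ⟨g, ⟨hgM, g.2, hge⟩, fun g' ⟨hM', hN', he'⟩ => ?_⟩
    obtain ⟨v, hv⟩ := hker (⟨g', hN'⟩ * g⁻¹) (by rw [map_mul, map_inv, he', hge, mul_inv_cancel])
    have h1 := hMJ v (hv ▸ mul_mem hM' (inv_mem hgM))
    rw [h1, ofAdd_zero, map_one] at hv
    exact mul_inv_eq_one.1 hv
  choose sf hsf hsu using hsec
  have hsN : ∀ w : W, sf w ∈ N := fun w => (hsf w).2.1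
  have hsμ : ∀ w : W, μ ⟨sf w, hsN w⟩ = (w : Mon) := fun w => (hsf w).2.2
  let s : W →* G :=
    { toFun := sf
      map_one' := (hsu 1 1 ⟨one_mem Mc, one_mem N, map_one μ⟩).symm
      map_mul' := fun a b => (hsu (a * b) _ ⟨mul_mem (hsf a).1 (hsf b).1, mul_mem (hsN a) (hsN b), by
        rw [show (⟨sf a * sf b, mul_mem (hsN a) (hsN b)⟩ : N) = ⟨_, hsN a⟩ * ⟨_, hsN b⟩ from rfl,
          map_mul, hsμ, hsμ]
        rfl⟩).symm }
  have hnorm : ∀ g (hg : g ∈ N), ∃ v, g = j (ofAdd v) * s ⟨μ ⟨g, hg⟩, ⟨_, rfl⟩⟩ := by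
    intro g hg
    set w : W := ⟨μ ⟨g, hg⟩, ⟨_, rfl⟩⟩
    obtain ⟨v, hv⟩ := hker (⟨g, hg⟩ * ⟨_, hsN w⟩⁻¹) (by rw [map_mul, map_inv, hsμ, mul_inv_cancel])
    refine ⟨v, ?_⟩
    rw [← hv]
    show g = g * (sf w)⁻¹ * sf w
    rw [inv_mul_cancel_right]
  -- the kind
  have hkind : ∃ k : Fin 4, (k = 1 ∨ k = 3) ∧ ∀ m, m ∈ W ↔ inKind k m = true := by
    obtain ⟨k, hk⟩ := exists_kind W hWp
    obtain ⟨m, hm, hm1⟩ : ∃ m ∈ W, act m ones = -ones := by
      refine ⟨_, ⟨⟨ι, hιN⟩, rfl⟩, congrArg toAdd (hinj ?_)⟩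
      show j (ofAdd (act (μ ⟨ι, hιN⟩) ones)) = j (ofAdd (-ones))
      rw [← mul_left_inj ι, ← hμ ⟨ι, hιN⟩ ones, ofAdd_neg, map_inv, hjones, hjones₀]
      exact hι
    refine ⟨k, ?_, hk⟩
    have key : ∀ k m, inKind k m = true → act m ones = -ones → k = 1 ∨ k = 3 := by decide +kernel
    exact key k m ((hk m).1 hm) hm1
  -- adjusting the copy of the model
  obtain ⟨P', hP'j, hP't, hP'z⟩ := exists_adjusted P β (hjones.trans hjones₀) (fun v => (hjv v).trans (hj₀ _))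
    (s ⟨tau, hWp 0 true⟩)
    (by rw [← map_mul, show (⟨tau, hWp 0 true⟩ : W) * ⟨tau, hWp 0 true⟩ = 1 from
          Subtype.ext tau_facts.1, map_one])
    (fun v => by
      have h1 := hμ ⟨_, hsN ⟨tau, hWp 0 true⟩⟩ v
      rw [hsμ] at h1
      exact h1)
  obtain ⟨k, hk13, hk⟩ := hkind
  refine ⟨W, j, s, k, P', hk13, ⟨hinj, fun w v => ?_, fun g hg => ?_, hWp, hstab, hP'j, ?_, hk⟩, hP'z⟩
  · show sf w * _ * (sf w)⁻¹ = _
    rw [hμ ⟨_, hsN w⟩ v, mul_inv_cancel_right, hsμ]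
  · rw [hjr] at hg
    obtain ⟨v, hv⟩ := hnorm g hg
    exact ⟨v, _, hv⟩
  · rw [el_zero_left, sm_mem (show tau ∈ W from hWp 0 true)]
    exact hP't

end Cfsg.Agent.PSpThreeReal
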