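import Cfsg.Agent.Lib.PSpThreeReal.Coord

/-!
# The case of the automizer `2 × S3`: facts decided in the model

* `Q0`: the Sylow 2-subgroup of the complement; `Q_facts`, `Q_outer`
* `odd_normal`: the normal subgroups of odd order
* `kind_one_ones`, `kind_one_comm`: the automizer
-/

set_option autoImplicit false
set_option maxRecDepth 100000
set_option synthInstance.maxSize 8000
set_option synthInstance.maxHeartbeats 200000

namespace Cfsg.Agent.PSpThreeReal

open Cfsg Subgroup
open SymNineThree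
open PSpThree (H3 SL23)
open PSpThree.Loc (M emb InJ InS tM)
open ThreeCubedSymFour (V3)
open Multiplicative (ofAdd)

/-! ### The model -/

/-- Membership in the Sylow 2-subgroup of the complement. -/
abbrev InQ (m : M) : Prop := m.left = 1 ∧ PSpThree.Loc.chi m.right = 0

/-- The Sylow 2-subgroup of the complement. -/
def Q0 : Subgroup M where
  carrier := {m | InQ m}
  one_mem' := ⟨rfl, by decide +kernel⟩
  mul_mem' := fun {a b} ha hb => ⟨by
      rw [SemidirectProduct.mul_left, ha.1, hb.1, map_one, one_mul],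
    by rw [SemidirectProduct.mul_right, PSpThree.Loc.chi_mul, ha.2, hb.2, add_zero]⟩
  inv_mem' := fun {a} ha => ⟨by
      rw [SemidirectProduct.inv_left, ha.1, inv_one, map_one],
    by
      have h := PSpThree.Loc.chi_mul a.right a.right⁻¹
      rw [mul_inv_cancel, show PSpThree.Loc.chi 1 = 0 by decide +kernel, ha.2, zero_add] at h
      rw [SemidirectProduct.inv_right]
      exact h.symm⟩

theorem inQ_of_cent : ∀ m : M, m.left.i = 0 → m.left.j = 0 →
    (m * m) * (m * m) * ((m * m) * (m * m)) = 1 → InQ m := by decide +kernel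

theorem Q_facts : InQ tM ∧ ∀ m : M, InQ m → m * tM = tM * m ∧ (m * m) * (m * m) = 1 ∧
    (m * m = 1 → m = 1 ∨ m = tM) ∧ (m = 1 ∨ m = tM ∨ m * m = tM) ∧
    ((∀ w, InQ w → w * m = m * w) → m = 1 ∨ m = tM) ∧
    (∀ w, InQ w → m⁻¹ * w * m = w ∨ m⁻¹ * w * m = w * tM) := by decide +kernel

theorem Q_outer : ∃ w : M, InQ w ∧ InQ (emb (0, 0, 1) * w * (emb (0, 0, 1))⁻¹) ∧
    ∀ c c' : M, (c = 1 ∨ c = tM) → (c' = 1 ∨ c' = tM) →
      (emb (0, 0, 1))⁻¹ * (w * c) * emb (0, 0, 1) ≠ emb (0, 0, 1) * w * (emb (0, 0, 1))⁻¹ * c' :=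
  ⟨SemidirectProduct.inr ⟨!![0, 2; 1, 0], by decide⟩, by decide +kernel⟩

theorem exists_inJ_conj : ∀ h : H3, ∃ A : SL23,
    InJ (SemidirectProduct.inr A * SemidirectProduct.inl h * (SemidirectProduct.inr A : M)⁻¹) := by
  decide +kernel

theorem inl_center : ∀ h : H3, h.i = 0 → h.j = 0 →
    (SemidirectProduct.inl h : M) = emb (1, 0, 0) ^ h.a.val := by decide +kernel

theorem heis_transitive : ∀ x h : H3, (x.i ≠ 0 ∨ x.j ≠ 0) → (h.i = 0 ∧ h.j = 0) ∨
    ∃ A : SL23, ∃ c : PSpThree.K, h = (⟨c, 0, 0⟩ : H3) * H3.act A x := by decide +kernel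

theorem heis_commutator : ∀ x : H3, (x.i ≠ 0 ∨ x.j ≠ 0) → ∃ y, x * y * x⁻¹ * y⁻¹ = H3.cz := by
  decide +kernel

theorem inl_inS : ∀ h : H3, InS (SemidirectProduct.inl h : M) := by decide +kernel

/-- A normal subgroup of odd order of the model is central or contains the Heisenberg group. -/
theorem odd_normal (D : Subgroup M) [D.Normal] (hodd : ∀ d ∈ D, Odd (orderOf d)) :
    (∀ d ∈ D, d.right = 1) ∧ ((∀ d ∈ D, ∃ n : ℕ, d = emb (1, 0, 0) ^ n) ∨
      ∀ h : H3, SemidirectProduct.inl h ∈ D) := by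
  have hneg : ∀ d ∈ D, d.right ≠ PSpThree.negOne := fun d hd e => by
    have h1 : orderOf (PSpThree.negOne : SL23) ∣ orderOf d := e ▸ orderOf_map_dvd SemidirectProduct.rightHom d
    rw [orderOf_eq_prime (by decide +kernel : (PSpThree.negOne : SL23) ^ 2 = 1) (by decide +kernel)] at h1
    exact (Nat.not_even_iff_odd.2 (hodd d hd)) (even_iff_two_dvd.2 h1)
  have hright : ∀ d ∈ D, d.right = 1 := by
    intro d hd
    by_contra hne
    rcases PSpThree.negOne_mem_closure _ hne with h | h | h | ⟨B, h⟩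
    · exact hneg d hd h
    · exact hneg (d * d) (mul_mem hd hd) h
    · exact hneg (d * (d * d)) (mul_mem hd (mul_mem hd hd)) h
    · set b : M := SemidirectProduct.inr B
      have hc : d * b * d⁻¹ * b⁻¹ ∈ D := by
        have := mul_mem hd ((inferInstance : D.Normal).conj_mem _ (inv_mem hd) b)
        simpa [mul_assoc] using this
      refine hneg _ (mul_mem hc hc) ?_
      simpa [b] using h
  refine ⟨hright, ?_⟩
  by_cases hcen : ∀ d ∈ D, d.left.i = 0 ∧ d.left.j = 0
  · refine Or.inl fun d hd => ⟨d.left.a.val, ?_⟩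
    rw [← inl_center d.left (hcen d hd).1 (hcen d hd).2]
    exact SemidirectProduct.ext rfl (hright d hd)
  refine Or.inr fun h => ?_
  push Not at hcen
  obtain ⟨d, hd, hd'⟩ := hcen
  have hx : d.left.i ≠ 0 ∨ d.left.j ≠ 0 := not_and_or.1 fun e => hd' e.1 e.2
  have hdl : d = SemidirectProduct.inl d.left := SemidirectProduct.ext rfl (hright d hd)
  obtain ⟨y, hy⟩ := heis_commutator d.left hx
  have hcz : (SemidirectProduct.inl H3.cz : M) ∈ D := by
    have h1 := mul_mem hd ((inferInstance : D.Normal).conj_mem _ (inv_mem hd) (SemidirectProduct.inl y : M))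
    rw [← hy, map_mul, map_mul, map_mul, map_inv, map_inv, ← hdl]
    simpa [mul_assoc] using h1
  have hc : ∀ c : PSpThree.K, (SemidirectProduct.inl ⟨c, 0, 0⟩ : M) ∈ D := fun c => by
    rw [inl_center _ rfl rfl, PSpThree.Loc.emb_a]
    exact pow_mem hcz _
  rcases heis_transitive d.left h hx with ⟨hi, hj⟩ | ⟨A, c, e⟩
  · rw [inl_center h hi hj, PSpThree.Loc.emb_a]
    exact pow_mem hcz _
  · rw [e, map_mul, SemidirectProduct.inl_aut, ← hdl]
    refine mul_mem (hc c) ?_
    rw [map_inv]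
    exact (inferInstance : D.Normal).conj_mem _ hd _

/-- The coordinates modulo the centre. -/
def heisProj : H3 →* Multiplicative (PSpThree.K × PSpThree.K) :=
  MonoidHom.mk' (fun h => ofAdd (h.i, h.j)) fun a b => by
    rw [PSpThree.H3.mul_def, ← ofAdd_add]
    rfl

/-! ### The automizer -/

theorem kind_one_ones : ∀ m, inKind 1 m = true → (act m ones = ones ∨ act m ones = -ones) ∧
    ∀ v, (act m v = ones ∨ act m v = -ones) → v = ones ∨ v = -ones := by decide +kernel

theorem kind_one_comm : ∀ m, inKind 1 m = true → m * tau = tau * m →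
    (m = 1 ∨ m = tau) ∨ m * negOne = 1 ∨ m * negOne = tau := by decide +kernel

theorem negOne_tau : negOne * negOne = 1 ∧ negOne * tau = tau * negOne ∧
    (negOne : Mon) ≠ 1 ∧ inKind 1 negOne = true := by decide +kernel

theorem point_ne : ((1, 0, 0) : V3) ≠ 0 ∧ ((1, 0, 0) : V3) ≠ ones ∧ ((1, 0, 0) : V3) ≠ -ones ∧
    ((1, 0, 0) : V3) + (1, 0, 0) ≠ 0 := by decide +kernel

theorem Q_key : ∀ w : M, InQ w → ∀ v : M, InQ v → v ≠ w → v ≠ w * tM →
    (∃ c, c = v * v ∧ w * w = c) → w * v * (w * v) = tM ∧ v * w = (w * v)⁻¹ := by decide +kernel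

end Cfsg.Agent.PSpThreeReal
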