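import Cfsg.Agent.Lib.PSpThreeReal.Points
import Cfsg.Agent.Lib.PSpThreeReal.KindOneModel
import Cfsg.Agent.Lib.SymNineThree.IndexTwo
import Cfsg.Agent.S0111
import Cfsg.Agent.S0215
import Cfsg.Agent.S3347

/-!
# The real case with automizer `2 × S3`: the subgroup generated by the distinguished element is normal

* `Real.cent_tau_one`: the centralizer of `t = el 0 tau` normalizes `⟨z⟩`
* `Real.exists_index_two`: a normal subgroup of index two omitting `el 0 negOne`
* `Real.kind_one`: `⟨z⟩` is normal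
-/

set_option autoImplicit false
set_option maxHeartbeats 800000
set_option maxRecDepth 100000
set_option synthInstance.maxSize 8000
set_option synthInstance.maxHeartbeats 200000

namespace Cfsg.Agent.PSpThreeReal

open Cfsg Subgroup
open SymNineThree
open PSpThree (H3 SL23)
open PSpThree.Loc (M emb embHom InJ InS tM)
open ThreeCubedSymFour (V3)
open Multiplicative (ofAdd toAdd)

universe u

variable {G : Type u} [Group G] {W : Subgroup Mon} {j : Multiplicative V3 →* G} {s : W →* G} {P : Pre G}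

section

variable (E : Real W j s 1 P)

include E

theorem Real.negOne_mem : negOne ∈ W := E.mem negOne_tau.2.2.2

theorem Real.conj_negOne (v : V3) :
    el j s 0 negOne * el j s v 1 * (el j s 0 negOne)⁻¹ = (el j s v 1)⁻¹ := by
  rw [E.el_conj E.negOne_mem, act_negOne, E.el_inv (one_mem W), inv_one, act_one]

theorem Real.conj_negOne_z : el j s 0 negOne * P.z * (el j s 0 negOne)⁻¹ = P.z⁻¹ := by
  rw [E.z_eq, E.conj_negOne]

theorem Real.negOne_sq : el j s 0 negOne * el j s 0 negOne = 1 :=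
  E.sm_sq E.negOne_mem negOne_tau.1

theorem Real.negOne_comm_tau : Commute (el j s 0 negOne) (el j s 0 tau) := by
  refine (E.el_comm_iff E.negOne_mem E.tau_mem).2 ⟨?_, negOne_tau.2.1⟩
  rw [show act negOne (0 : V3) = 0 from (actAdd _).map_zero,
    show act tau (0 : V3) = 0 from (actAdd _).map_zero]

omit E in
theorem mem_normalizer_z {g : G} (h : g * P.z * g⁻¹ = P.z ∨ g * P.z * g⁻¹ = P.z⁻¹) :
    g ∈ normalizer (zpowers P.z : Set G) := by
  refine mem_normalizer_iff_map_conj_eq.2 ?_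
  rw [MonoidHom.map_zpowers]
  show zpowers (g * P.z * g⁻¹) = _
  rcases h with h | h <;> rw [h]
  exact zpowers_inv

omit E in
theorem mem_zpowers_z {g : G} (hg : g ∈ zpowers P.z) : g = 1 ∨ g = P.z ∨ g = P.z⁻¹ := by
  obtain ⟨i, rfl⟩ := mem_zpowers_iff.1 hg
  have h3 : P.z ^ (3 : ℤ) = 1 := by
    rw [show (3 : ℤ) = (3 : ℕ) from rfl, zpow_natCast, P.z_cube]
  have hmod : P.z ^ i = P.z ^ (i % 3) := by
    conv_lhs => rw [← Int.emod_add_mul_ediv i 3, zpow_add, zpow_mul, h3, one_zpow, mul_one]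
  rcases (show i % 3 = 0 ∨ i % 3 = 1 ∨ i % 3 = 2 by omega) with h | h | h <;> rw [hmod, h]
  · exact Or.inl (zpow_zero _)
  · exact Or.inr (Or.inl (zpow_one _))
  · refine Or.inr (Or.inr (eq_inv_iff_mul_eq_one.2 ?_))
    rw [show (2 : ℤ) = (2 : ℕ) from rfl, zpow_natCast, ← pow_succ, P.z_cube]

omit E in
theorem normalizer_z_cases {g : G} (hg : g ∈ normalizer (zpowers P.z : Set G)) :
    g * P.z * g⁻¹ = P.z ∨ g * P.z * g⁻¹ = P.z⁻¹ :=
  (mem_zpowers_z ((mem_normalizer_iff.1 hg _).1 (mem_zpowers _))).resolve_left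
    fun e => P.z_ne_one (conj_eq_one_iff.1 e)

omit E in
theorem range_le_normalizer_z : P.θ.range ≤ normalizer (zpowers P.z : Set G) := by
  rintro _ ⟨m, rfl⟩
  exact mem_normalizer_z (Or.inl (mul_inv_eq_iff_eq_mul.2 (P.commute_z m).eq))

/-- `N(⟨z⟩)` is the centralizer extended by `el 0 negOne`. -/
theorem Real.normalizer_z_range {g : G} (hg : g ∈ normalizer (zpowers P.z : Set G)) :
    g ∈ P.θ.range ∨ g * el j s 0 negOne ∈ P.θ.range := by
  rcases normalizer_z_cases hg with h | h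
  · exact Or.inl (P.range g (mul_inv_eq_iff_eq_mul.1 h))
  · refine Or.inr (P.range _ (mul_inv_eq_iff_eq_mul.1 ?_))
    set ι := el j s 0 negOne
    calc g * ι * P.z * (g * ι)⁻¹ = g * (ι * P.z * ι⁻¹) * g⁻¹ := by group
      _ = P.z := by rw [E.conj_negOne_z, ← conj_inv, h, inv_inv]

theorem Real.normalizer_J_le :
    normalizer (j.range : Set G) ≤ normalizer (zpowers P.z : Set G) := by
  intro g hg
  obtain ⟨v, m, hm, rfl⟩ := E.exists_normal_form hg
  refine mem_normalizer_z ?_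
  rw [E.z_eq, E.el_conj hm, E.el_inv (one_mem W), inv_one, act_one]
  exact (kind_one_ones m ((E.kind m).1 hm)).1.imp (fun e => by rw [e]) (fun e => by rw [e])

/-- The elements of order prime to three commuting with `z` and `t`. -/
theorem Real.mem_Q {g : G} (hz : Commute g P.z) (ht : Commute g (el j s 0 tau)) {k : ℕ}
    (hk : g ^ k = 1) (hk3 : Nat.Coprime k 3) : g ∈ Q0.map P.θ := by
  obtain ⟨m, rfl⟩ := P.range g hz
  refine ⟨m, ?_, rfl⟩
  rw [← E.tau_eq] at ht
  obtain ⟨hi, hj⟩ := (PSpThree.Loc.cent_tM m).1 (P.model_commute.1 ht)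
  refine inQ_of_cent m hi hj ?_
  have h1 : orderOf m ∣ k := orderOf_dvd_of_pow_eq_one (P.inj (by rw [map_pow, hk, map_one]))
  have hM : Nat.card M = 81 * 8 := by
    rw [SemidirectProduct.card, H3.card_H3, PSpThree.card_SL23]
  have h2 : orderOf m ∣ 8 := by
    refine (Nat.Coprime.dvd_of_dvd_mul_left ?_ (hM ▸ orderOf_dvd_natCard m))
    rw [show 81 = 3 ^ 4 from rfl]
    exact Nat.Coprime.pow_right _ (Nat.Coprime.coprime_dvd_left h1 hk3)
  have h3 := orderOf_dvd_iff_pow_eq_one.1 h2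
  rw [← h3]
  simp only [pow_succ, pow_zero, one_mul, mul_assoc]

omit E in
theorem Q_le_range : Q0.map P.θ ≤ P.θ.range := map_le_range _ _

omit E in
theorem Q_pow {g : G} (hg : g ∈ Q0.map P.θ) : g ^ 4 = 1 := by
  obtain ⟨m, hm, rfl⟩ := hg
  rw [← map_pow, show m ^ 4 = 1 from ?_, map_one]
  rw [show m ^ 4 = (m * m) * (m * m) by simp only [pow_succ, pow_zero, one_mul, mul_assoc]]
  exact (Q_facts.2 m hm).2.1

theorem Real.tau_mem_Q : el j s 0 tau ∈ Q0.map P.θ := ⟨tM, Q_facts.1, E.tau_eq⟩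

theorem Real.Q_comm_tau {g : G} (hg : g ∈ Q0.map P.θ) : Commute g (el j s 0 tau) := by
  obtain ⟨m, hm, rfl⟩ := hg
  rw [← E.tau_eq]
  exact P.model_commute.2 (Q_facts.2 m hm).1

theorem Real.Q_involution {g : G} (hg : g ∈ Q0.map P.θ) (h2 : g * g = 1) (h1 : g ≠ 1) :
    g = el j s 0 tau := by
  obtain ⟨m, hm, rfl⟩ := hg
  rcases (Q_facts.2 m hm).2.2.1 (P.inj (by rw [map_mul, h2, map_one])) with e | e
  · exact absurd (by rw [e, map_one]) h1
  · rw [e, E.tau_eq]

theorem Real.negOne_conj_Q {g : G} (hg : g ∈ Q0.map P.θ) :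
    el j s 0 negOne * g * (el j s 0 negOne)⁻¹ ∈ Q0.map P.θ := by
  set ι := el j s 0 negOne
  refine E.mem_Q ?_ ?_ (k := 4) (by rw [conj_pow, Q_pow hg, mul_one, mul_inv_cancel]) (by norm_num)
  · obtain ⟨m, -, rfl⟩ := hg
    have h := ((P.commute_z m).inv_right).map (MulAut.conj ι).toMonoidHom
    have e : ι * P.z⁻¹ * ι⁻¹ = P.z := by rw [← conj_inv, E.conj_negOne_z, inv_inv]
    have h' : Commute (ι * P.θ m * ι⁻¹) (ι * P.z⁻¹ * ι⁻¹) := h
    rwa [e] at h'
  · have h : Commute (ι * g * ι⁻¹) (ι * el j s 0 tau * ι⁻¹) :=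
      (E.Q_comm_tau hg).map (MulAut.conj ι).toMonoidHom
    rwa [mul_inv_eq_iff_eq_mul.2 E.negOne_comm_tau.eq] at h

end

/-! ### The centralizer of `t` -/

variable [Finite G]

theorem Real.small (E : Real W j s 1 P) {v : V3} (hv : v ≠ 0) (h1 : v ≠ ones) (h2 : v ≠ -ones) :
    centralizer ({el j s v 1} : Set G) ≤ normalizer (j.range : Set G) := by
  rcases E.cent_or_axis hv with ⟨m, hm, h⟩ | h | h
  · exact absurd ((kind_one_ones m ((E.kind m).1 hm)).2 v h) (by tauto)
  · exact h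
  · exact absurd h.1 (by decide)

/-- The centralizers of the points normalize `⟨z⟩`. -/
theorem Real.cent_point (E : Real W j s 1 P) {v : V3} (hv : v ≠ 0) :
    centralizer ({el j s v 1} : Set G) ≤ normalizer (zpowers P.z : Set G) := by
  by_cases h1 : v = ones
  · intro g hg
    rw [h1, ← E.z_eq] at hg
    exact mem_normalizer_z (Or.inl (mul_inv_eq_iff_eq_mul.2 (mem_centralizer_singleton_iff.1 hg)))
  by_cases h2 : v = -ones
  · intro g hg
    rw [h2] at hg
    refine mem_normalizer_z (Or.inl (mul_inv_eq_iff_eq_mul.2 ?_))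
    have h : Commute g (el j s (-ones) 1) := mem_centralizer_singleton_iff.1 hg
    have e : el j s (-ones) 1 = P.z⁻¹ := by rw [E.z_eq, E.el_inv (one_mem W), inv_one, act_one]
    rw [e] at h
    exact (Commute.inv_right_iff.1 h).eq
  exact (E.small hv h1 h2).trans E.normalizer_J_le

theorem Real.cent_tau_one (E : Real W j s 1 P) :
    centralizer ({el j s 0 tau} : Set G) ≤ normalizer (zpowers P.z : Set G) := by
  have h3p : Fact (Nat.Prime 3) := ⟨Nat.prime_three⟩
  obtain ⟨-, htones, ht100, -, hcard, hfix⟩ := tau_facts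
  set t := el j s 0 tau with ht
  set Kt := centralizer ({t} : Set G)
  set Pl := fixT j
  have hmem : ∀ {u : V3}, el j s u 1 ∈ Pl ↔ act tau u = u := fun {u} =>
    E.mem_planeSub.trans fixMap_eq_zero
  have hexists : ∀ {g : G}, g ∈ Pl → ∃ u, act tau u = u ∧ g = el j s u 1 := fun {g} hg => by
    obtain ⟨u, hu, e⟩ := E.exists_planeSub hg
    exact ⟨u, fixMap_eq_zero.1 hu, e⟩
  have hPlJ : Pl ≤ j.range := planeSub_le _
  have hPl3 : IsPGroup 3 Pl := E.space_isPGroup.to_le hPlJ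
  have hPlK : Pl ≤ Kt := fun g hg => by
    obtain ⟨u, hu, rfl⟩ := hexists hg
    exact mem_centralizer_singleton_iff.2 ((E.el_comm_space E.tau_mem).2 hu).symm
  have hPlc : IsMulCommutative Pl := ⟨⟨fun a b => Subtype.ext
    (congrArg Subtype.val (E.space_comm.is_comm.comm ⟨a, hPlJ a.2⟩ ⟨b, hPlJ b.2⟩) :)⟩⟩
  have hPl9 : Nat.card Pl = 9 := by
    rw [show Pl = planeSub j (fixMap tau) from rfl, E.card_planeSub, ← hcard]
    exact congrArg Finset.card (Finset.filter_congr fun u _ => fixMap_eq_zero)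
  have hPlnc : ¬ IsCyclic Pl := by
    intro hc
    obtain ⟨g, hg⟩ := hc.exists_generator
    have h1 := orderOf_eq_card_of_forall_mem_zpowers hg
    rw [hPl9] at h1
    have h2 : g ^ 3 = 1 := Subtype.ext (by simpa using E.space_cube (hPlJ g.2))
    have := orderOf_dvd_of_pow_eq_one h2
    rw [h1] at this
    norm_num at this
  -- centralizer and normalizer of the plane
  have hcentPl : ∀ {g : G}, (∀ p ∈ Pl, g * p = p * g) →
      ∃ w m, m ∈ W ∧ (m = 1 ∨ m = tau) ∧ g = el j s w m := by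
    intro g hg
    have hg' : g ∈ centralizer ({el j s (1, 0, 0) 1} : Set G) :=
      mem_centralizer_singleton_iff.2 (hg _ (hmem.2 ht100))
    obtain ⟨w, m, hm, rfl⟩ := E.exists_normal_form
      (E.small point_ne.1 point_ne.2.1 point_ne.2.2.1 hg')
    exact ⟨w, m, hm, hfix m ((E.el_comm_space hm).1 (hg _ (hmem.2 htones)))
      ((E.el_comm_space hm).1 (hg _ (hmem.2 ht100))), rfl⟩
  have hNPl : normalizer (Pl : Set G) ≤ normalizer (j.range : Set G) := fun g hg =>
    E.map_conj_space fun p hp => by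
      obtain ⟨w, m, hm, -, e⟩ := hcentPl (g := g * p * g⁻¹) fun q hq => by
        have hq' : g⁻¹ * q * g ∈ Pl :=
          (mem_normalizer_iff.1 hg _).2 (by simpa [mul_assoc] using hq)
        have hc : Commute p (g⁻¹ * q * g) :=
          (congrArg Subtype.val (E.space_comm.is_comm.comm ⟨p, hp⟩ ⟨_, hPlJ hq'⟩) :)
        have := (hc.map (MulAut.conj g).toMonoidHom).eq
        simpa [mul_assoc] using this
      rw [e]
      exact E.el_mem_normalizer hm w
  have hform : ∀ {g : G}, g ∈ Kt → g ∈ normalizer (j.range : Set G) →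
      ∃ w m, m ∈ W ∧ act tau w = w ∧ m * tau = tau * m ∧ g = el j s w m := by
    intro g hg hgN
    obtain ⟨w, m, hm, rfl⟩ := E.exists_normal_form hgN
    have h := mem_centralizer_singleton_iff.1 hg
    rw [ht, E.el_comm_iff hm E.tau_mem, show act m (0 : V3) = 0 from (actAdd m).map_zero, add_zero,
      zero_add] at h
    exact ⟨w, m, hm, h.1.symm, h.2, rfl⟩
  have hJnormPl : ∀ {g : G}, g ∈ Kt → g ∈ normalizer (j.range : Set G) →
      g ∈ normalizer (Pl : Set G) := by
    intro g hg hgN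
    obtain ⟨w, m, hm, -, hc, rfl⟩ := hform hg hgN
    refine mem_normalizer_iff_map_conj_eq.2 (eq_of_le_of_card_ge ?_
      (by rw [card_map_of_injective (MulAut.conj (el j s w m)).injective]))
    rintro _ ⟨q, hq, rfl⟩
    obtain ⟨u, hu, rfl⟩ := hexists hq
    show el j s w m * el j s u 1 * (el j s w m)⁻¹ ∈ Pl
    rw [E.el_conj hm]
    exact hmem.2 (by rw [← act_mul, ← hc, act_mul, hu])
  have hidx : ¬ 3 ∣ (Pl.subgroupOf Kt).index := by
    refine SymNineThree.not_dvd_index_of_normalizer hPlK hPl3 fun g hg hgP n hn => ?_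
    obtain ⟨w, m, hm, hw, hc, rfl⟩ := hform hg (hNPl hgP)
    have key : ∀ m, m * m * m = 1 → m * tau = tau * m → m = 1 := by decide +kernel
    rw [key m (E.three_form hm hn) hc]
    exact hmem.2 hw
  -- coprime invariant subgroups
  have hsig : Sig Pl Kt (Q0.map P.θ) := by
    refine sig_of_points hPl3 hPlc hPlnc fun a ha ha1 K hK hPK hcop g hg => ?_
    obtain ⟨u, hu, rfl⟩ := hexists ha
    have hgk : g ^ Nat.card K = 1 :=
      orderOf_dvd_iff_pow_eq_one.1 (Subgroup.orderOf_dvd_natCard K hg.1)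
    have hgt : Commute g t := mem_centralizer_singleton_iff.1 (hK hg.1)
    have hu0 : u ≠ 0 := fun e => ha1 (by rw [e, el_zero_one])
    by_cases hu1 : u = ones ∨ u = -ones
    · refine E.mem_Q ?_ hgt hgk hcop
      have h : Commute g (el j s u 1) := mem_centralizer_singleton_iff.1 hg.2
      rcases hu1 with e | e
      · rwa [e, ← E.z_eq] at h
      · rw [e, show el j s (-ones) 1 = P.z⁻¹ by rw [E.z_eq, E.el_inv (one_mem W), inv_one, act_one]] at h
        exact Commute.inv_right_iff.1 h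
    push Not at hu1
    have hgN := E.small hu0 hu1.1 hu1.2 hg.2
    have hcent := le_of_commutator hPK hPl3 hcop hg.1 (hJnormPl (hK hg.1) hgN)
    refine E.mem_Q ?_ hgt hgk hcop
    rw [E.z_eq]
    exact (hcent _ (hmem.2 htones)).symm
  -- the Sylow subgroup in the centralizer
  let T : Sylow 3 Kt := (hPl3.comap_subtype (K := Kt)).toSylow hidx
  have hT : (T : Subgroup Kt) = Pl.subgroupOf Kt := IsPGroup.toSylow_coe _ _
  have hmemT : ∀ {x : Kt}, x ∈ (T : Subgroup Kt) ↔ (x : G) ∈ Pl := fun {x} => by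
    rw [hT, mem_subgroupOf]
  have hTc : IsMulCommutative (T : Subgroup Kt) := ⟨⟨fun a b => Subtype.ext (Subtype.ext
    (congrArg Subtype.val (hPlc.is_comm.comm ⟨_, hmemT.1 a.2⟩ ⟨_, hmemT.1 b.2⟩) :))⟩⟩
  have hTnc : ¬ IsCyclic (T : Subgroup Kt) := fun hc => hPlnc <| by
    rw [hT] at hc
    exact (subgroupOfEquivOfLe hPlK).isCyclic.1 hc
  have hι : el j s 0 negOne ∈ Kt := mem_centralizer_singleton_iff.2 E.negOne_comm_tau.eq
  set ι : Kt := ⟨_, hι⟩ with hιdef
  have hιinv : ∀ x ∈ (T : Subgroup Kt), ι * x * ι⁻¹ = x⁻¹ := fun x hx => Subtype.ext (by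
    obtain ⟨u, hu⟩ := exists_el (s := s) (hPlJ (hmemT.1 hx))
    push_cast
    rw [hu]
    exact E.conj_negOne u)
  have hTN : ∀ {x : Kt}, x ∈ normalizer ((T : Subgroup Kt) : Set Kt) → (x : G) ∈ normalizer (Pl : Set G) := by
    intro x hx
    refine mem_normalizer_iff_map_conj_eq.2 (eq_of_le_of_card_ge ?_
      (by rw [card_map_of_injective (MulAut.conj (x : G)).injective]))
    rintro _ ⟨p, hp, rfl⟩
    exact hmemT.1 ((mem_normalizer_iff.1 hx ⟨p, hPlK hp⟩).1 (hmemT.2 hp))
  have hindex : ((centralizer ((T : Subgroup Kt) : Set Kt)).subgroupOf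
      (normalizer ((T : Subgroup Kt) : Set Kt))).index = 2 := by
    have hιN : ι ∈ normalizer ((T : Subgroup Kt) : Set Kt) := by
      refine mem_normalizer_iff_map_conj_eq.2 (eq_of_le_of_card_ge ?_
        (by rw [card_map_of_injective (MulAut.conj ι).injective]))
      rintro _ ⟨p, hp, rfl⟩
      show ι * p * ι⁻¹ ∈ (T : Subgroup Kt)
      rw [hιinv p hp]
      exact inv_mem hp
    refine index_eq_two_iff.2 ⟨⟨ι, hιN⟩, fun b => ?_⟩
    simp only [Xor, mem_subgroupOf, Subgroup.coe_mul]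
    have hone : (⟨el j s (1, 0, 0) 1, hPlK (hmem.2 ht100)⟩ : Kt) ∈ (T : Subgroup Kt) :=
      hmemT.2 (hmem.2 ht100)
    have hnot : (b : Kt) ∈ centralizer ((T : Subgroup Kt) : Set Kt) →
        (b : Kt) * ι ∉ centralizer ((T : Subgroup Kt) : Set Kt) := fun h1 h2 => by
      have h3 := mul_mem (inv_mem h1) h2
      rw [inv_mul_cancel_left] at h3
      have h4 := hιinv _ hone
      rw [mul_inv_eq_iff_eq_mul.2 (h3 _ hone).symm, eq_inv_iff_mul_eq_one] at h4
      have h5 := congrArg Subtype.val h4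
      push_cast at h5
      rw [E.el_mul (one_mem W) (one_mem W), act_one, one_mul, E.el_eq_one_iff (one_mem W)] at h5
      exact point_ne.2.2.2 h5.1
    have hor : (b : Kt) ∈ centralizer ((T : Subgroup Kt) : Set Kt) ∨
        (b : Kt) * ι ∈ centralizer ((T : Subgroup Kt) : Set Kt) := by
      obtain ⟨w, m, hm, -, hc, e⟩ := hform (b : Kt).2 (hNPl (hTN b.2))
      have hc1 : ∀ (w : V3) (m : Mon), m = 1 ∨ m = tau → ∀ y : Kt, y ∈ (T : Subgroup Kt) →
          (y : G) * el j s w m = el j s w m * (y : G) := by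
        intro w m hm' y hy
        have hm : m ∈ W := by
          rcases hm' with rfl | rfl
          exacts [one_mem W, E.tau_mem]
        obtain ⟨u, hu, ey⟩ := hexists (hmemT.1 hy)
        rw [ey]
        refine ((E.el_comm_space hm).2 ?_).symm
        rcases hm' with rfl | rfl
        exacts [act_one u, hu]
      rcases kind_one_comm m ((E.kind m).1 hm) hc with h | h
      · refine Or.inl fun y hy => Subtype.ext ?_
        push_cast
        rw [e]
        exact hc1 w m h y hy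
      · refine Or.inr fun y hy => Subtype.ext ?_
        push_cast
        rw [e, E.el_mul hm E.negOne_mem, show act m (0 : V3) = 0 from (actAdd m).map_zero, add_zero]
        exact hc1 w _ h y hy
    rcases hor with h | h
    · exact Or.inr ⟨h, hnot h⟩
    · exact Or.inl ⟨h, fun h' => hnot h' h⟩
  -- three-length one
  have hlen : Cfsg.PLengthLE 3 1 Kt := by
    refine (S3347.result 3 (by norm_num) T hTc hTnc hindex).resolve_left fun hR => hR ?_
    haveI := Transfer.pResidual_normal (p := 3) (G := Kt)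
    set R := Cfsg.pResidual 3 Kt
    have hιR : ι ∈ R := Transfer.mem_pResidual_of_coprime (by
      have : orderOf ι ∣ 2 := orderOf_dvd_of_pow_eq_one (by
        rw [pow_two]; exact Subtype.ext E.negOne_sq)
      exact Nat.Coprime.coprime_dvd_left this (by norm_num))
    have hTR : (T : Subgroup Kt) ≤ R := fun p hp => by
      have h1 : ι * p * ι⁻¹ * p⁻¹ ∈ R := by
        rw [mul_assoc, mul_assoc, ← mul_assoc p]
        exact R.mul_mem hιR (Subgroup.Normal.conj_mem inferInstance _ (R.inv_mem hιR) p)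
      rw [hιinv p hp] at h1
      have e : p = p⁻¹ * p⁻¹ := by
        rw [eq_comm, ← mul_inv_rev, inv_eq_iff_mul_eq_one]
        refine Subtype.ext ?_
        push_cast
        rw [← pow_two, ← pow_succ]
        exact E.space_cube (hPlJ (hmemT.1 hp))
      rwa [← e] at h1
    obtain ⟨k, hk⟩ := Transfer.exists_index_pResidual (G := Kt) (p := 3)
    refine Subgroup.index_eq_one.1 ?_
    have hd := Subgroup.index_dvd_of_le hTR
    rw [hk] at hd ⊢
    cases k with
    | zero => rfl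
    | succ k => exact absurd ((dvd_pow_self 3 (Nat.succ_ne_zero k)).trans hd) T.not_dvd_index
  -- the Frattini argument
  set O := Cfsg.pPrimeCore 3 Kt with hO
  have hOQ : ∀ x ∈ O, (x : G) ∈ Q0.map P.θ := by
    have hle := hsig (O.map Kt.subtype) (map_subtype_le _) ?_ ?_
    · exact fun x hx => hle ⟨x, hx, rfl⟩
    · intro p hp
      refine mem_normalizer_fintype fun y hy => ?_
      obtain ⟨x, hx, rfl⟩ := hy
      exact ⟨⟨p, hPlK hp⟩ * x * ⟨p, hPlK hp⟩⁻¹,
        (inferInstance : O.Normal).conj_mem x hx _, rfl⟩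
    · rw [Cores.card_map_subtype]
      exact Cores.coprime_card_pPrimeCore 3
  set f := QuotientGroup.mk' O
  have hf : Function.Surjective f := QuotientGroup.mk'_surjective _
  have hTn := normal_of_pLength (T := T.mapSurjective hf) (Cores.pPrimeCore_quotient_self 3)
    (HallHigman.pLengthLE_of_surjective f hf hlen)
  set N : Subgroup Kt := ((T.mapSurjective hf : Sylow 3 (Kt ⧸ O)) : Subgroup (Kt ⧸ O)).comap f
  haveI hNn : N.Normal := hTn.comap f
  have hTNle : (T : Subgroup Kt) ≤ N := fun x hx => ⟨x, hx, rfl⟩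
  have hTN' : N ≤ normalizer ((T : Subgroup Kt) : Set Kt) ⊔ O := fun x hx => by
    obtain ⟨y, hy, e⟩ := (hx : f x ∈ (T : Subgroup Kt).map f)
    have h1 : y⁻¹ * x ∈ O := (QuotientGroup.eq).1 e
    have h2 := mul_mem_sup (le_normalizer hy) h1
    rwa [mul_inv_cancel_left] at h2
  have htop := Sylow.normalizer_sup_eq_top' T hTNle
  intro g hg
  have hg' : (⟨g, hg⟩ : Kt) ∈ normalizer ((T : Subgroup Kt) : Set Kt) ⊔ O :=
    (sup_le le_sup_left hTN') (htop.ge (mem_top _))
  have hle : normalizer ((T : Subgroup Kt) : Set Kt) ⊔ O ≤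
      (normalizer (zpowers P.z : Set G)).subgroupOf Kt :=
    sup_le (fun x hx => mem_subgroupOf.2 (E.normalizer_J_le (hNPl (hTN hx))))
      fun x hx => mem_subgroupOf.2 (range_le_normalizer_z (Q_le_range (hOQ x hx)))
  exact mem_subgroupOf.1 (hle hg')

/-! ### The subgroup of index two -/

theorem Real.not_nine_of_line (E : Real W j s 1 P) {m : Mon} (hm : m ∈ W) {u : V3} (hu : act m u = u)
    (hu0 : u ≠ 0) (hC : centralizer ({el j s u 1} : Set G) ≤ normalizer (j.range : Set G))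
    (hfix : ∀ w, act m w = w → w = 0 ∨ w = u ∨ w = -u)
    (h3 : ∀ x, x * x * x = 1 → x * m = m * x → x = 1) :
    ¬ 9 ∣ Nat.card (centralizer ({el j s 0 m} : Set G)) := by
  have : Fact (Nat.Prime 3) := ⟨Nat.prime_three⟩
  set p := el j s u 1
  set C := centralizer ({el j s 0 m} : Set G)
  have hpC : p ∈ C := mem_centralizer_singleton_iff.2 ((E.el_comm_space hm).2 hu).symm
  have hp3 : p ^ 3 = 1 := E.space_cube (el_mem_range u)
  have hp1 : p ≠ 1 := fun e => hu0 ((E.el_eq_one_iff (one_mem W)).1 e).1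
  have hidx : ¬ 3 ∣ ((zpowers p).subgroupOf C).index := by
    refine SymNineThree.not_dvd_index_of_normalizer (zpowers_le.2 hpC)
      (E.space_isPGroup.to_le (zpowers_le.2 (el_mem_range u))) fun g hg hgN n hn => ?_
    have hconj : g * p * g⁻¹ ∈ zpowers p := (mem_normalizer_iff.1 hgN p).1 (mem_zpowers p)
    obtain ⟨i, hi⟩ := mem_zpowers_iff.1 hconj
    have hmod : p ^ i = p ^ (i % 3) := by
      conv_lhs => rw [← Int.emod_add_mul_ediv i 3, zpow_add, zpow_mul,
        show p ^ (3 : ℤ) = 1 by rw [show (3 : ℤ) = (3 : ℕ) from rfl, zpow_natCast, hp3], one_zpow, mul_one]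
    rw [hmod] at hi
    have hgp : g * p = p * g := by
      rcases (show i % 3 = 0 ∨ i % 3 = 1 ∨ i % 3 = 2 by omega) with h | h | h <;> rw [h] at hi
      · rw [zpow_zero] at hi
        exact absurd (conj_eq_one_iff.1 hi.symm) hp1
      · rw [zpow_one] at hi
        exact mul_inv_eq_iff_eq_mul.1 hi.symm
      · refine absurd ?_ (not_inverts hp3 hp1 hn)
        rw [← hi, eq_inv_iff_mul_eq_one, show (2 : ℤ) = (2 : ℕ) from rfl, zpow_natCast, ← pow_succ, hp3]
    obtain ⟨w, x, hx, rfl⟩ := E.exists_normal_form (hC (mem_centralizer_singleton_iff.2 hgp))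
    have hc := mem_centralizer_singleton_iff.1 hg
    rw [E.el_comm_iff hx hm, show act x (0 : V3) = 0 from (actAdd x).map_zero, add_zero, zero_add] at hc
    have hx1 := h3 x (E.three_form hx hn) hc.2
    subst hx1
    rcases hfix w hc.1.symm with rfl | rfl | rfl
    · rw [el_zero_one]; exact one_mem _
    · exact mem_zpowers _
    · rw [show el j s (-u) 1 = p⁻¹ by rw [E.el_inv (one_mem W), inv_one, act_one]]
      exact inv_mem (mem_zpowers _)
  rintro ⟨d, hd⟩
  have h1 := ((zpowers p).subgroupOf C).card_mul_index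
  rw [Nat.card_congr (subgroupOfEquivOfLe (zpowers_le.2 hpC)).toEquiv, Nat.card_zpowers,
    orderOf_eq_prime hp3 hp1, hd] at h1
  exact hidx ⟨d, by linarith⟩

theorem Real.negTau_not_conj (E : Real W j s 1 P) (g : G) :
    g * el j s 0 tau * g⁻¹ ≠ el j s 0 (negOne * tau) := by
  intro h
  obtain ⟨hu, hu0, hfix, h3⟩ := negTau_facts
  have hC := E.small hu0 (by decide +kernel) (by decide +kernel)
  refine E.not_nine_of_line (mul_mem E.negOne_mem E.tau_mem) hu hu0 hC hfix h3 ?_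
  have hcard : Nat.card (planeSub j (fixMap tau)) = 9 := by
    rw [E.card_planeSub, ← tau_facts.2.2.2.2.1]
    exact congrArg Finset.card (Finset.filter_congr fun u _ => fixMap_eq_zero)
  rw [← hcard, ← card_map_of_injective (f := (MulAut.conj g).toMonoidHom) (MulAut.conj g).injective
    (K := planeSub j (fixMap tau))]
  refine card_dvd_of_le ?_
  rintro _ ⟨p, hp, rfl⟩
  obtain ⟨u, hu', rfl⟩ := E.exists_planeSub hp
  rw [← h]
  refine mem_centralizer_singleton_iff.2 ?_
  exact ((show Commute (el j s u 1) (el j s 0 tau) from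
    ((E.el_comm_space E.tau_mem).2 (fixMap_eq_zero.1 hu')).symm).map (MulAut.conj g).toMonoidHom).eq

/-- `el 0 negOne` induces an outer automorphism of `Q` modulo the centre. -/
theorem Real.exists_outer (E : Real W j s 1 P) : ∃ w : M, InQ w ∧
    el j s 0 negOne * P.θ w * (el j s 0 negOne)⁻¹ ≠ P.θ w ∧
    el j s 0 negOne * P.θ w * (el j s 0 negOne)⁻¹ ≠ P.θ (w * tM) := by
  set ι := el j s 0 negOne
  by_contra hh
  push Not at hh
  have hall : ∀ w, InQ w → ∃ c, (c = 1 ∨ c = tM) ∧ ι * P.θ w * ι⁻¹ = P.θ (w * c) := fun w hw => by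
    by_cases h : ι * P.θ w * ι⁻¹ = P.θ w
    · exact ⟨1, Or.inl rfl, by rw [h, mul_one]⟩
    · exact ⟨tM, Or.inr rfl, hh w hw h⟩
  obtain ⟨w, hw, hw', hne⟩ := Q_outer
  obtain ⟨c, hc, e⟩ := hall w hw
  obtain ⟨c', hc', e'⟩ := hall _ hw'
  refine hne c c' hc hc' (P.inj ?_)
  have hE : ι * P.θ (emb (0, 0, 1)) * ι⁻¹ = (P.θ (emb (0, 0, 1)))⁻¹ := by
    show ι * P.em (0, 0, 1) * ι⁻¹ = (P.em (0, 0, 1))⁻¹
    rw [E.em_eq']
    exact E.conj_negOne _
  simp only [map_mul, map_inv] at e e' ⊢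
  rw [← e', ← e]
  generalize P.θ (emb (0, 0, 1)) = x at hE ⊢
  calc x⁻¹ * (ι * P.θ w * ι⁻¹) * x = ι * x * ι⁻¹ * (ι * P.θ w * ι⁻¹) * x := by rw [hE]
    _ = ι * (x * P.θ w) * ι⁻¹ * x := by group
    _ = ι * (x * P.θ w) * ι⁻¹ * (ι * x⁻¹ * ι⁻¹) := by rw [← conj_inv, hE, inv_inv]
    _ = _ := by group

/-- The Thompson transfer step. -/
theorem Real.exists_index_two (E : Real W j s 1 P) : ∃ (M₂ : Subgroup G) (S : Sylow 2 G),
    M₂.Normal ∧ M₂.index = 2 ∧ el j s 0 negOne ∉ M₂ ∧ Q0.map P.θ ≤ (S : Subgroup G) ∧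
    (Q0.map P.θ).relIndex (S : Subgroup G) = 2 := by
  have h2p : Fact (Nat.Prime 2) := ⟨Nat.prime_two⟩
  set ι := el j s 0 negOne with hιdef
  set t := el j s 0 tau with htdef
  set Q := Q0.map P.θ
  have hι2 : ι * ι = 1 := E.negOne_sq
  have hιi : ι⁻¹ = ι := inv_eq_of_mul_eq_one_right hι2
  have hιne : ι ≠ 1 := fun e => negOne_tau.2.2.1 ((E.el_eq_one_iff E.negOne_mem).1 e).2
  have hιQ : ι ∉ Q := by
    intro h
    have := E.Q_involution h hι2 hιne
    have key : (negOne : Mon) ≠ tau := by decide +kernel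
    exact key (E.el_injective E.negOne_mem E.tau_mem this).2
  have hconj : ∀ {q : G}, q ∈ Q → ι * q * ι ∈ Q := fun {q} hq => by
    have := E.negOne_conj_Q hq
    rwa [← hιdef, hιi] at this
  let T : Subgroup G :=
    { carrier := {g | g ∈ Q ∨ g * ι ∈ Q}
      one_mem' := Or.inl Q.one_mem
      mul_mem' := fun {a b} ha hb => by
        rcases ha with ha | ha <;> rcases hb with hb | hb
        · exact Or.inl (Q.mul_mem ha hb)
        · exact Or.inr (by rw [mul_assoc]; exact Q.mul_mem ha hb)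
        · refine Or.inr ?_
          have e : a * b * ι = a * ι * (ι * b * ι) := by
            rw [show a * ι * (ι * b * ι) = a * (ι * ι) * b * ι by group, hι2, mul_one]
          exact e ▸ Q.mul_mem ha (hconj hb)
        · refine Or.inl ?_
          have e : a * b = a * ι * (ι * (b * ι) * ι) := by
            rw [show a * ι * (ι * (b * ι) * ι) = a * (ι * ι) * b * (ι * ι) by group, hι2, mul_one, mul_one]
          exact e ▸ Q.mul_mem ha (hconj hb)
      inv_mem' := fun {a} ha => by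
        rcases ha with ha | ha
        · exact Or.inl (Q.inv_mem ha)
        · refine Or.inr ?_
          have e : a⁻¹ * ι = ι * (a * ι)⁻¹ * ι := by rw [mul_inv_rev, ← mul_assoc ι, mul_inv_cancel, one_mul]
          exact e ▸ hconj (Q.inv_mem ha) }
  have hT2 : IsPGroup 2 T := fun ⟨g, hg⟩ => by
    refine ⟨3, Subtype.ext ?_⟩
    show g ^ 2 ^ 3 = 1
    have hg2 : g * g ∈ Q := by
      rcases hg with h | h
      · exact Q.mul_mem h h
      · have e : g * g = g * ι * (ι * (g * ι) * ι) := by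
          rw [show g * ι * (ι * (g * ι) * ι) = g * (ι * ι) * g * (ι * ι) by group, hι2, mul_one, mul_one]
        exact e ▸ Q.mul_mem h (hconj h)
    rw [show (2 : ℕ) ^ 3 = 2 * 4 from rfl, pow_mul, pow_two]
    exact Q_pow hg2
  obtain ⟨S, hTS⟩ := hT2.exists_le_sylow
  have hQS : Q ≤ (S : Subgroup G) := fun q hq => hTS (Or.inl hq)
  have hιS : ι ∈ (S : Subgroup G) := hTS (Or.inr (by rw [hι2]; exact Q.one_mem))
  -- an element of the Sylow subgroup centralizing `t` lies in `T`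
  have hcentT : ∀ x ∈ (S : Subgroup G), Commute x t → x ∈ T := by
    intro x hx hxt
    have h2pow : ∀ y ∈ (S : Subgroup G), ∃ n : ℕ, y ^ 2 ^ n = 1 := fun y hy => by
      obtain ⟨n, hn⟩ := S.isPGroup' ⟨y, hy⟩
      exact ⟨n, by simpa using congrArg Subtype.val hn⟩
    rcases E.normalizer_z_range (E.cent_tau_one (mem_centralizer_singleton_iff.2 hxt.eq)) with h | h
    · obtain ⟨m, rfl⟩ := h
      obtain ⟨n, hn⟩ := h2pow _ hx
      exact Or.inl (E.mem_Q (P.commute_z m) hxt hn (Nat.Coprime.pow_left n (by norm_num)))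
    · obtain ⟨m, hm⟩ := h
      obtain ⟨n, hn⟩ := h2pow _ (mul_mem hx hιS)
      refine Or.inr (E.mem_Q (hm ▸ P.commute_z m) (hxt.mul_left E.negOne_comm_tau) hn
        (Nat.Coprime.pow_left n (by norm_num)))
  -- `t` is central in the Sylow subgroup
  have htS : ∀ x ∈ (S : Subgroup G), Commute x t := by
    obtain ⟨w, hw, hw1, hw2⟩ := E.exists_outer
    haveI : Nontrivial (S : Subgroup G) := ⟨⟨⟨ι, hιS⟩, 1, fun e => hιne (congrArg Subtype.val e)⟩⟩
    haveI := S.isPGroup'.center_nontrivial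
    obtain ⟨c, hc1⟩ := exists_ne (1 : center (S : Subgroup G))
    have hcc : ∀ x ∈ (S : Subgroup G), Commute ((c : (S : Subgroup G)) : G) x := fun x hx =>
      (congrArg Subtype.val (Subgroup.mem_center_iff.1 c.2 ⟨x, hx⟩)).symm
    have hcne : ((c : (S : Subgroup G)) : G) ≠ 1 := fun e => hc1 (Subtype.ext (Subtype.ext e))
    have hcS := (c : (S : Subgroup G)).2
    generalize ((c : (S : Subgroup G)) : G) = x at hcc hcne hcS
    rcases hcentT x hcS (hcc t (hQS E.tau_mem_Q)) with h | h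
    · obtain ⟨m, hm, rfl⟩ := h
      rcases (Q_facts.2 m hm).2.2.2.2.1 (fun v hv => P.model_commute.1
        (hcc _ (hQS ⟨v, hv, rfl⟩)).symm) with e | e
      · exact absurd (by rw [e, map_one]) hcne
      · intro y hy
        have := (hcc y hy).symm
        rwa [e, E.tau_eq] at this
    · obtain ⟨q, hq, hqe⟩ := h
      exfalso
      have hx : x = P.θ q * ι := by rw [hqe, mul_assoc, hι2, mul_one]
      have h1 := (hcc _ (hQS ⟨w, hw, rfl⟩)).eq
      rw [hx] at h1
      have h2 : ι * P.θ w * ι⁻¹ = P.θ (q⁻¹ * w * q) := by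
        rw [map_mul, map_mul, map_inv, mul_inv_eq_iff_eq_mul, mul_assoc, mul_assoc, eq_inv_mul_iff_mul_eq,
          ← mul_assoc]
        exact h1
      rcases (Q_facts.2 q hq).2.2.2.2.2 w hw with e | e <;> rw [e] at h2
      exacts [hw1 h2, hw2 h2]
  have hST : ∀ x ∈ (S : Subgroup G), x ∈ Q ∨ x * ι ∈ Q := fun x hx => hcentT x hx (htS x hx)
  have hrel : Q.relIndex (S : Subgroup G) = 2 := by
    rw [relIndex]
    refine index_eq_two_iff.2 ⟨⟨ι, hιS⟩, fun b => ?_⟩
    simp only [Xor, mem_subgroupOf, Subgroup.coe_mul]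
    have hnot : (b : G) ∈ Q → (b : G) * ι ∉ Q := fun h h' => hιQ (by
      have := Q.mul_mem (Q.inv_mem h) h'
      rwa [inv_mul_cancel_left] at this)
    rcases hST b b.2 with h | h
    · exact Or.inr ⟨h, hnot h⟩
    · exact Or.inl ⟨h, fun h' => hnot h' h⟩
  rcases S0111.result S Q hQS hrel ι (orderOf_eq_prime (by rw [pow_two, hι2]) hιne) hιS hιQ with
    ⟨M₂, hn, hi, hιM⟩ | ⟨g, hg⟩
  · exact ⟨M₂, S, hn, hi, hιM, hQS, hrel⟩
  -- otherwise the negated exchange would be conjugate to the exchange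
  exfalso
  have hgt : g * ι * g⁻¹ = t := E.Q_involution hg
    (by rw [show g * ι * g⁻¹ * (g * ι * g⁻¹) = g * (ι * ι) * g⁻¹ by group, hι2]; group)
    (fun e => hιne (conj_eq_one_iff.1 e))
  obtain ⟨w, hw, hw1, hw2⟩ := E.exists_outer
  obtain ⟨v, hv, hve⟩ := E.negOne_conj_Q ⟨w, hw, rfl⟩
  rw [← hιdef] at hw1 hw2 hve
  have hvw : v ≠ w ∧ v ≠ w * tM := ⟨fun e => hw1 (by rw [← hve, e]), fun e => hw2 (by rw [← hve, e])⟩
  have hq : InQ (w * v) := Q0.mul_mem hw hv
  have hqs : w * v * (w * v) = tM ∧ v * w = (w * v)⁻¹ := by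
    refine Q_key w hw v hv hvw.1 hvw.2 ⟨_, rfl, P.inj ?_⟩
    rw [map_mul, map_mul, hve]
    rw [show ι * P.θ w * ι⁻¹ * (ι * P.θ w * ι⁻¹) = ι * (P.θ w * P.θ w) * ι⁻¹ by group]
    rcases (Q_facts.2 w hw).2.2.2.1 with e | e | e
    · exfalso; exact hw1 (by rw [e, map_one, mul_one, mul_inv_cancel])
    · exfalso
      exact hw1 (by rw [e, E.tau_eq]; exact mul_inv_eq_iff_eq_mul.2 E.negOne_comm_tau.eq)
    · rw [← map_mul, e, E.tau_eq]
      exact (mul_inv_eq_iff_eq_mul.2 E.negOne_comm_tau.eq).symm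
  set q := P.θ (w * v) with hqdef
  have hιq : ι * q * ι⁻¹ = q⁻¹ := by
    have e1 : ι * (P.θ w * P.θ v) * ι⁻¹ = P.θ v * P.θ w := by
      rw [hve, show ι * (P.θ w * (ι * P.θ w * ι⁻¹)) * ι⁻¹ =
        (ι * P.θ w * ι⁻¹) * ((ι * ι) * P.θ w * (ι * ι)⁻¹) by group, hι2, inv_one, one_mul, mul_one]
    rw [hqdef, map_mul, e1, ← map_mul, hqs.2, map_inv, map_mul]
  have hqq : q⁻¹ * ι * q = t * ι := by
    have h1 : q * q = t := by rw [hqdef, ← map_mul, hqs.1, E.tau_eq]
    have ht2 : t⁻¹ = t := inv_eq_of_mul_eq_one_right (E.sm_sq E.tau_mem tau_facts.1)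
    calc q⁻¹ * ι * q = q⁻¹ * (ι * q * ι⁻¹) * ι := by group
      _ = (q * q)⁻¹ * ι := by rw [hιq]; group
      _ = t * ι := by rw [h1, ht2]
  refine E.negTau_not_conj (g * q)⁻¹ ?_
  have e : el j s 0 (negOne * tau) = t * ι := by
    rw [htdef, hιdef, E.el_mul E.tau_mem E.negOne_mem, show act tau (0 : V3) = 0 from (actAdd _).map_zero,
      add_zero, negOne_tau.2.1]
  rw [e, ← hqq, ← htdef, ← hgt]
  group

/-! ### The odd normal subgroup -/

/-- A subgroup whose Sylow 3-subgroup is central is in the centralizer. -/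
theorem Real.le_range_of_small (E : Real W j s 1 P) {Y D M₂ : Subgroup G}
    (hcap : ∀ g ∈ M₂, g ∈ normalizer (zpowers P.z : Set G) → g ∈ P.θ.range)
    (hYM : Y ≤ M₂) (hDY : D ≤ Y) (hDz : D ≤ zpowers P.z) (hidx : ¬ 3 ∣ (D.subgroupOf Y).index)
    (hinv : ∀ a ∈ P.J, ∀ x ∈ Y, (orderOf x).Coprime 3 → a * x * a⁻¹ ∈ Y) : Y ≤ P.θ.range := by
  have h3p : Fact (Nat.Prime 3) := ⟨Nat.prime_three⟩
  have hcz : ∀ p ∈ D, ∀ n, Commute n P.z → n * p * n⁻¹ = p := fun p hp n hn => by
    obtain ⟨i, rfl⟩ := mem_zpowers_iff.1 (hDz hp)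
    rw [(hn.zpow_right i).eq, mul_inv_cancel_right]
  letI : CommGroup D :=
    { (inferInstance : Group D) with
      mul_comm := fun a b => Subtype.ext (by
        obtain ⟨i, hi⟩ := mem_zpowers_iff.1 (hDz a.2)
        obtain ⟨k, hk⟩ := mem_zpowers_iff.1 (hDz b.2)
        show (a : G) * b = b * a
        rw [← hi, ← hk, zpow_mul_comm]) }
  have hD3 : IsPGroup 3 D :=
    (P.J_isPGroup.to_le (zpowers_le.2 (P.em_mem _))).to_le hDz
  have hcomm : IsMulCommutative D := ⟨⟨fun a b => mul_comm a b⟩⟩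
  obtain ⟨L, hLY, hn, hLD, hdec⟩ := SymNineThree.exists_kernel hDY hD3 hcomm hidx (MonoidHom.id D)
    fun n hn hnD p h => Subtype.ext (by
      by_cases h1 : (p : G) = 1
      · show n * (p : G) * n⁻¹ = p
        rw [h1, mul_one, mul_inv_cancel]
      · refine hcz p p.2 n ?_
        have hz : P.z ∈ D := by
          rcases mem_zpowers_z (hDz p.2) with e | e | e
          · exact absurd e h1
          · exact e ▸ p.2
          · exact (inv_mem_iff (H := D)).1 (e ▸ p.2)
        have hDeq : D = zpowers P.z := le_antisymm hDz (zpowers_le.2 hz)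
        obtain ⟨m, rfl⟩ := hcap n (hYM hn) (hDeq ▸ hnD)
        exact P.commute_z m)
  have hint : Nat.card (D ⊓ L : Subgroup G) = 3 ^ 0 := by
    rw [pow_zero, Subgroup.card_eq_one, eq_bot_iff_forall]
    intro g hg
    exact congrArg Subtype.val ((hLD ⟨g, hg.1⟩).1 hg.2)
  have hL3 : (Nat.card L).Coprime 3 :=
    ((Nat.Prime.coprime_iff_not_dvd Nat.prime_three).2
      (by simpa using not_nine_dvd hDY hLY hn hdec hidx hint)).symm
  have hLbot : L = ⊥ := P.sig L hL3 fun a ha => by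
    refine mem_normalizer_fintype fun x hx => ?_
    have hx3 : (orderOf x).Coprime 3 := hL3.coprime_dvd_left (Subgroup.orderOf_dvd_natCard L hx)
    refine mem_kernel hDY hn hD3 hdec (hinv a ha x (hLY hx) hx3) (k := orderOf x)
      (by rw [conj_pow, pow_orderOf_eq_one, mul_one, mul_inv_cancel])
      ((Nat.Prime.coprime_iff_not_dvd Nat.prime_three).1 hx3.symm)
  intro y hy
  obtain ⟨d, hd, l, hl, rfl⟩ := hdec y hy
  rw [hLbot, mem_bot] at hl
  rw [hl, mul_one]
  obtain ⟨i, rfl⟩ := mem_zpowers_iff.1 (hDz hd)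
  exact zpow_mem (show P.z ∈ P.θ.range from ⟨_, rfl⟩) i

/-- The odd normal subgroups of the subgroup of index two lie in the centralizer. -/
theorem Real.odd_le_range (E : Real W j s 1 P) {X M₂ : Subgroup G}
    (hcap : ∀ g ∈ M₂, g ∈ normalizer (zpowers P.z : Set G) → g ∈ P.θ.range)
    (hCM : P.θ.range ≤ M₂) (hXM : X ≤ M₂) (hMX : M₂ ≤ normalizer (X : Set G))
    (hodd : Odd (Nat.card X)) : X ≤ P.θ.range := by
  have h3p : Fact (Nat.Prime 3) := ⟨Nat.prime_three⟩
  haveI : (X.comap P.θ).Normal := ⟨fun d hd k => mem_comap.2 (by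
    rw [map_mul, map_mul, map_inv]
    exact (mem_normalizer_iff.1 (hMX (hCM ⟨k, rfl⟩)) _).1 hd)⟩
  obtain ⟨hright, hcases⟩ := odd_normal (X.comap P.θ) fun d hd => by
    refine hodd.of_dvd_nat ?_
    rw [← orderOf_injective P.θ P.inj d]
    exact Subgroup.orderOf_dvd_natCard X hd
  set D := X ⊓ P.syl
  have hsylC : P.syl ≤ P.θ.range := map_le_range _ _
  have hJ : ∀ a ∈ P.J, a ∈ M₂ := fun a ha => hCM (hsylC (P.J_le_syl ha))
  have hidx : ¬ 3 ∣ (D.subgroupOf X).index := by
    obtain ⟨T, hT⟩ := ((P.syl_isPGroup.to_le (inf_le_right : D ≤ P.syl)).comap_subtype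
      (K := X)).exists_le_sylow
    suffices (T : Subgroup X) = D.subgroupOf X by rw [← this]; exact T.not_dvd_index
    refine (eq_of_le_of_card_ge hT ?_).symm
    have hTG : (T : Subgroup X).map X.subtype ≤ M₂ := (map_subtype_le _).trans hXM
    obtain ⟨R, hR⟩ := ((T.isPGroup'.map X.subtype).comap_subtype (K := M₂)).exists_le_sylow
    have hsi : ¬ 3 ∣ (P.syl.subgroupOf M₂).index := fun h => P.syl_index
      (h.trans ⟨_, (Subgroup.relIndex_mul_index (hsylC.trans hCM)).symm⟩)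
    let R' : Sylow 3 M₂ := (P.syl_isPGroup.comap_subtype (K := M₂)).toSylow hsi
    obtain ⟨h, hh⟩ := MulAction.exists_smul_eq M₂ R R'
    have hle : ((T : Subgroup X).map X.subtype).map (MulAut.conj (h : G)).toMonoidHom ≤ D := by
      rintro _ ⟨x, hx, rfl⟩
      refine ⟨?_, ?_⟩
      · exact (mem_normalizer_iff.1 (hMX h.2) x).1 (map_subtype_le _ hx)
      · have h1 : h * ⟨x, hTG hx⟩ * h⁻¹ ∈ (R' : Subgroup M₂) := by
          rw [← hh, Sylow.coe_subgroup_smul]
          exact ⟨_, hR (mem_subgroupOf.2 hx), rfl⟩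
        rw [show (R' : Subgroup M₂) = P.syl.subgroupOf M₂ from IsPGroup.toSylow_coe _ _, mem_subgroupOf] at h1
        exact h1
    have h1 := Subgroup.card_le_of_le hle
    rw [card_map_of_injective (MulAut.conj (h : G)).injective, Cores.card_map_subtype] at h1
    exact h1.trans (Cores.card_subgroupOf (inf_le_left : D ≤ X)).ge
  rcases hcases with hZ | hR
  · -- the intersection is central
    refine E.le_range_of_small hcap hXM (inf_le_left : D ≤ X) ?_ hidx fun a ha x hx _ =>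
      (mem_normalizer_iff.1 (hMX (hJ a ha)) x).1 hx
    rintro g ⟨hgX, hgS⟩
    obtain ⟨m, rfl⟩ := hsylC hgS
    obtain ⟨n, rfl⟩ := hZ m hgX
    rw [map_pow]
    exact pow_mem (mem_zpowers P.z) n
  -- the intersection is the extraspecial group
  set ρ : H3 →* G := P.θ.comp SemidirectProduct.inl
  have hρ : Function.Injective ρ := P.inj.comp SemidirectProduct.inl_injective
  set R := ρ.range
  have hDR : D = R := by
    refine le_antisymm ?_ ?_
    · rintro g ⟨hgX, hgS⟩
      obtain ⟨m, rfl⟩ := hsylC hgS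
      exact ⟨m.left, congrArg P.θ (SemidirectProduct.ext rfl (hright m hgX).symm)⟩
    · rintro _ ⟨h, rfl⟩
      exact ⟨hR h, _, inl_inS h, rfl⟩
  rw [hDR] at hidx
  have hR3 : IsPGroup 3 R := hDR ▸ P.syl_isPGroup.to_le inf_le_right
  have hRX : R ≤ X := hDR ▸ inf_le_left
  -- fusion does not leave the centralizer
  have hconj : ∀ h h' : H3, h ≠ 1 → ∀ g ∈ M₂, g * ρ h * g⁻¹ = ρ h' → g ∈ P.θ.range := by
    intro h h' hne g hg hgh
    obtain ⟨A, hA⟩ := exists_inJ_conj h
    obtain ⟨B, hB⟩ := exists_inJ_conj h'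
    set a := P.θ (SemidirectProduct.inr A) with ha
    set b := P.θ (SemidirectProduct.inr B) with hb
    obtain ⟨u, hu⟩ := exists_el (s := s) (E.range_eq ▸ P.mem_J_of_model hA)
    obtain ⟨v, hv⟩ := exists_el (s := s) (E.range_eq ▸ P.mem_J_of_model hB)
    rw [map_mul, map_mul, map_inv, ← ha, show P.θ (SemidirectProduct.inl h) = ρ h from rfl] at hu
    rw [map_mul, map_mul, map_inv, ← hb, show P.θ (SemidirectProduct.inl h') = ρ h' from rfl] at hv
    set g' := b * g * a⁻¹ with hg'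
    have hg'M : g' ∈ M₂ := mul_mem (mul_mem (hCM ⟨_, rfl⟩) hg) (inv_mem (hCM ⟨_, rfl⟩))
    have he : g' * el j s u 1 * g'⁻¹ = el j s v 1 := by
      rw [hg', ← hu, ← hv, ← hgh]
      group
    have hu0 : u ≠ 0 := fun e => by
      rw [e, el_zero_one, conj_eq_one_iff, map_eq_one_iff ρ hρ] at hu
      exact hne hu
    obtain ⟨m, hm, hmu⟩ := E.fusion he
    set n := el j s 0 m
    have hnu : n * el j s u 1 * n⁻¹ = el j s v 1 := by rw [E.el_conj hm, hmu]
    have hx : n⁻¹ * g' ∈ centralizer ({el j s u 1} : Set G) := by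
      refine mem_centralizer_singleton_iff.2 ?_
      rw [mul_assoc, mul_inv_eq_iff_eq_mul.1 he, ← mul_assoc, ← hnu]
      group
    have hgN : g' ∈ normalizer (zpowers P.z : Set G) := by
      have := mul_mem (E.normalizer_J_le (E.el_mem_normalizer hm 0)) (E.cent_point hu0 hx)
      rwa [mul_inv_cancel_left] at this
    have h1 := mul_mem (mul_mem (inv_mem (show b ∈ P.θ.range from ⟨_, rfl⟩)) (hcap g' hg'M hgN))
      (show a ∈ P.θ.range from ⟨_, rfl⟩)
    rwa [show b⁻¹ * g' * a = g by rw [hg']; group] at h1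
  let eR := MonoidHom.ofInjective hρ
  let χ : R →* Multiplicative (PSpThree.K × PSpThree.K) := heisProj.comp eR.symm.toMonoidHom
  have hχ : ∀ h (hm : ρ h ∈ R), χ ⟨ρ h, hm⟩ = heisProj h := fun h hm =>
    congrArg heisProj (eR.symm_apply_eq.2 rfl)
  obtain ⟨L, hLX, hn, hLR, hdec⟩ := SymNineThree.exists_sylow_kernel hRX hR3 hidx χ
    fun q g hq hg h => by
      obtain ⟨h1, rfl⟩ := id hq
      obtain ⟨h2, hh2⟩ := id h
      by_cases h1e : h1 = 1
      · subst h1e
        exact congrArg χ (Subtype.ext (by simp))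
      obtain ⟨m, rfl⟩ := hconj h1 h2 h1e g (hXM hg) hh2.symm
      have hm' : P.θ m = ρ m.left := congrArg P.θ (SemidirectProduct.ext rfl (hright m hg))
      have hmem : ρ (m.left * h1 * m.left⁻¹) ∈ R := MonoidHom.mem_range.2 ⟨_, rfl⟩
      have e : (⟨_, h⟩ : R) = ⟨ρ (m.left * h1 * m.left⁻¹), hmem⟩ := Subtype.ext (by
        show P.θ m * ρ h1 * (P.θ m)⁻¹ = ρ (m.left * h1 * m.left⁻¹)
        rw [hm', map_mul, map_mul, map_inv])
      refine (congrArg χ e).trans ((hχ _ hmem).trans (Eq.trans ?_ (hχ h1 hq).symm))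
      rw [map_mul, map_mul, map_inv, mul_inv_cancel_comm]
  have hzρ : P.z = ρ H3.cz := congrArg P.θ PSpThree.Loc.emb_a
  have hRL : ∀ h, ρ h ∈ L → ρ h ∈ zpowers P.z := fun h hh => by
    have hm : ρ h ∈ R := MonoidHom.mem_range.2 ⟨h, rfl⟩
    have h1 := (hχ h hm).symm.trans ((hLR ⟨ρ h, hm⟩).1 hh)
    have h2 : (h.i, h.j) = (0, 0) := congrArg toAdd h1
    show P.θ (SemidirectProduct.inl h) ∈ zpowers P.z
    rw [inl_center h (congrArg Prod.fst h2) (congrArg Prod.snd h2), map_pow]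
    exact pow_mem (mem_zpowers P.z) _
  have hzL : P.z ∈ L := by
    rw [hzρ]
    have hm : ρ H3.cz ∈ R := MonoidHom.mem_range.2 ⟨_, rfl⟩
    exact (hLR ⟨_, hm⟩).2 ((hχ _ hm).trans rfl)
  have hint : R ⊓ L = zpowers P.z := by
    refine le_antisymm ?_ (zpowers_le.2 ⟨hzρ ▸ ⟨_, rfl⟩, hzL⟩)
    rintro _ ⟨⟨h, rfl⟩, hh⟩
    exact hRL h hh
  have hz3 : Nat.card (zpowers P.z) = 3 := by
    rw [Nat.card_zpowers]
    exact orderOf_eq_prime P.z_cube P.z_ne_one
  have h9 := not_nine_dvd hRX hLX hn hdec hidx (n := 1) (by rw [hint, hz3, pow_one])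
  have hidxL : ¬ 3 ∣ ((zpowers P.z).subgroupOf L).index := fun h => h9 (by
    have h1 := ((zpowers P.z).subgroupOf L).card_mul_index
    rw [Nat.card_congr (subgroupOfEquivOfLe (zpowers_le.2 hzL)).toEquiv, hz3] at h1
    rw [← h1, pow_succ, pow_one]
    exact mul_dvd_mul_left 3 h)
  have hLC : L ≤ P.θ.range :=
    E.le_range_of_small hcap (hLX.trans hXM) (zpowers_le.2 hzL) le_rfl hidxL fun a ha x hx h3 =>
      mem_kernel hRX hn hR3 hdec ((mem_normalizer_iff.1 (hMX (hJ a ha)) x).1 (hLX hx))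
        (k := orderOf x) (by rw [conj_pow, pow_orderOf_eq_one, mul_one, mul_inv_cancel])
        ((Nat.Prime.coprime_iff_not_dvd Nat.prime_three).1 h3.symm)
  intro x hx
  obtain ⟨p, hp, l, hl, rfl⟩ := hdec x hx
  obtain ⟨h, rfl⟩ := hp
  exact mul_mem (show ρ h ∈ P.θ.range from ⟨_, rfl⟩) (hLC hl)

/-! ### The theorem -/

/-- In the case of the automizer `2 × S3` the distinguished element generates a normal subgroup. -/
theorem Real.kind_one (E : Real W j s 1 P) : normalizer (zpowers P.z : Set G) = ⊤ := by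
  have h2p : Fact (Nat.Prime 2) := ⟨Nat.prime_two⟩
  obtain ⟨M₂, S, hMn, hMi, hιM, hQS, hrel⟩ := E.exists_index_two
  haveI := hMn
  set ι := el j s 0 negOne with hιdef
  set t := el j s 0 tau with htdef
  have hcube : ∀ g : G, g ^ 3 = 1 → g ∈ M₂ := fun g h => by
    have h2 := mul_self_mem_of_index_two hMi g
    have e : g = (g * g)⁻¹ := eq_inv_of_mul_eq_one_left (by rw [← mul_assoc, ← pow_two, ← pow_succ, h])
    exact e ▸ inv_mem h2
  have hCM : P.θ.range ≤ M₂ := by
    rintro _ ⟨m, rfl⟩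
    obtain ⟨i, k, i', k', hw⟩ := PSpThree.word_all m.right
    have h3 : ∀ x : M, x ^ 3 = 1 → P.θ x ∈ M₂ := fun x hx =>
      hcube _ (by rw [← map_pow, hx, map_one])
    have hU := h3 (SemidirectProduct.inr PSpThree.upperU) (by decide +kernel)
    have hL := h3 (SemidirectProduct.inr PSpThree.lowerU) (by decide +kernel)
    rw [← SemidirectProduct.inl_left_mul_inr_right m, hw]
    simp only [map_mul, map_pow]
    refine mul_mem (h3 _ ?_) (mul_mem (mul_mem (mul_mem (pow_mem hU _) (pow_mem hL _)) (pow_mem hU _))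
      (pow_mem hL _))
    rw [← map_pow, PSpThree.H3.pow_three_eq, map_one]
  have hcap : ∀ g ∈ M₂, g ∈ normalizer (zpowers P.z : Set G) → g ∈ P.θ.range := fun g hg hgN => by
    refine (E.normalizer_z_range hgN).resolve_right fun h => hιM ?_
    have := mul_mem (inv_mem hg) (hCM h)
    rwa [inv_mul_cancel_left] at this
  -- the Sylow 2-subgroup of `M₂`
  set Q := Q0.map P.θ
  have hQM : Q ≤ M₂ := Q_le_range.trans hCM
  have hQidx : ¬ 2 ∣ (Q.subgroupOf M₂).index := by
    have h1 := relIndex_mul_index hQM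
    have h2 := relIndex_mul_index hQS
    rw [hMi] at h1
    rw [hrel] at h2
    have h3 : Q.relIndex M₂ = (S : Subgroup G).index := by omega
    exact fun h => S.not_dvd_index (h3 ▸ h)
  have hQ2 : IsPGroup 2 Q := fun q => ⟨2, Subtype.ext (Q_pow q.2)⟩
  let S₂ : Sylow 2 M₂ := (hQ2.comap_subtype (K := M₂)).toSylow hQidx
  have hS₂ : ∀ {x : M₂}, x ∈ (S₂ : Subgroup M₂) ↔ (x : G) ∈ Q := fun {x} => by
    rw [show (S₂ : Subgroup M₂) = Q.subgroupOf M₂ from IsPGroup.toSylow_coe _ _, mem_subgroupOf]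
  have ht2 : t * t = 1 := E.sm_sq E.tau_mem tau_facts.1
  have htne : t ≠ 1 := fun e => by
    have key : (tau : Mon) ≠ 1 := by decide +kernel
    exact key ((E.el_eq_one_iff E.tau_mem).1 e).2
  have htQ : t ∈ Q := E.tau_mem_Q
  obtain ⟨N, hN, hNodd, hNt⟩ := S0215.result S₂ ⟨t, hQM htQ⟩
    (orderOf_eq_prime (Subtype.ext (by rw [SubgroupClass.coe_pow, pow_two, ht2]; rfl))
      fun e => htne (congrArg Subtype.val e))
    (hS₂.2 htQ) fun g hg => Subtype.ext (by
      refine E.Q_involution (hS₂.1 hg) ?_ ?_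
      · push_cast
        rw [show (g : G) * t * (g : G)⁻¹ * (g * t * (g : G)⁻¹) = g * (t * t) * (g : G)⁻¹ by group, ht2]
        group
      · push_cast
        exact fun e => htne (conj_eq_one_iff.1 e))
  set X := N.map M₂.subtype
  have hXM : X ≤ M₂ := map_subtype_le _
  have hMX : M₂ ≤ normalizer (X : Set G) := fun m hm => mem_normalizer_fintype fun y hy => by
    obtain ⟨x, hx, rfl⟩ := hy
    exact ⟨⟨m, hm⟩ * x * ⟨m, hm⟩⁻¹, hN.conj_mem x hx _, rfl⟩
  have hXodd : Odd (Nat.card X) := by rwa [Cores.card_map_subtype]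
  have hXC := E.odd_le_range hcap hCM hXM hMX hXodd
  have hMC : M₂ ≤ P.θ.range := by
    intro g hg
    have hx : t * g * t⁻¹ * g⁻¹ ∈ X := ⟨_, hNt ⟨g, hg⟩, rfl⟩
    set x := t * g * t⁻¹ * g⁻¹ with hxdef
    have hti : t⁻¹ = t := inv_eq_of_mul_eq_one_right ht2
    have hxinv : t * x * t⁻¹ = x⁻¹ := by
      rw [hxdef, hti]
      simp only [mul_inv_rev, inv_inv, hti, ← mul_assoc, ht2, one_mul]
    obtain ⟨k, hk⟩ := hXodd
    have hxk : x ^ (2 * k + 1) = 1 :=
      hk ▸ orderOf_dvd_iff_pow_eq_one.1 (Subgroup.orderOf_dvd_natCard X hx)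
    set y := x ^ (k + 1) with hydef
    have hyy : y * y = x := by
      rw [hydef, ← pow_add, show k + 1 + (k + 1) = 2 * k + 1 + 1 by ring, pow_succ, hxk, one_mul]
    have hy : t * y * t⁻¹ = y⁻¹ := by rw [hydef, ← conj_pow, hxinv, inv_pow]
    have hyg : t * (y * g) = y * g * t := by
      refine mul_inv_eq_iff_eq_mul.1 ?_
      calc t * (y * g) * t⁻¹ = (t * y * t⁻¹) * x * g := by rw [hxdef]; group
        _ = y⁻¹ * (y * y) * g := by rw [hy, hyy]
        _ = y * g := by group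
    have hygC : y * g ∈ P.θ.range := hcap _ (mul_mem (pow_mem (hXM hx) _) hg)
      (E.cent_tau_one (mem_centralizer_singleton_iff.2 hyg.symm))
    have := mul_mem (inv_mem (pow_mem (hXC hx) (k + 1))) hygC
    rwa [← hydef, inv_mul_cancel_left] at this
  refine eq_top_iff.2 fun g _ => ?_
  by_cases hg : g ∈ M₂
  · exact range_le_normalizer_z (hMC hg)
  have hgι : g * ι ∈ M₂ := (mul_mem_iff_of_index_two hMi).2 (iff_of_false hg hιM)
  have hιN : ι ∈ normalizer (zpowers P.z : Set G) := mem_normalizer_z (Or.inr E.conj_negOne_z)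
  have := mul_mem (range_le_normalizer_z (hMC hgι)) (inv_mem hιN)
  rwa [mul_inv_cancel_right] at this

end Cfsg.Agent.PSpThreeReal
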