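import Cfsg.Prelude.Def_Solvable
import Cfsg.Agent.Lib.PSpThree.Structure
import Cfsg.Agent.Lib.PSpThree.Amalgam.Build
import Cfsg.Agent.Lib.SymNineThree.Local

/-!
# An element of order three with centralizer `3^{1+2} : SL(2,3)` and signalizer-free `J`

* `Pre G`: the centralizer as a copy of the model, `J` signalizer-free
* `exists_pre`: the configuration from the hypotheses of the recognition theorem
* `Pre.syl`, `Pre.mem_normalizer`: the Sylow subgroup of the centralizer; `J` is weakly closed in it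
* `Pre.fusion`: fusion in `J` is controlled by `N(J)` when the Sylow subgroup is one of the group
-/

set_option autoImplicit false
set_option maxRecDepth 100000
set_option synthInstance.maxSize 2000

namespace Cfsg.Agent.PSpThreeReal

open Cfsg Subgroup
open PSpThree PSpThree.Loc

/-- The centralizer of an element of order three as a copy of the model. -/
structure Pre (G : Type*) [Group G] where
  /-- the copy of the model -/
  θ : M →* G
  inj : Function.Injective θ
  range : ∀ g : G, Commute g (θ (emb (1, 0, 0))) → ∃ m, θ m = g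
  sig : ∀ N : Subgroup G, (Nat.card N).Coprime 3 →
    (θ.comp embHom).range ≤ Subgroup.normalizer (N : Set G) → N = ⊥

theorem model_center : ∀ m : M,
    (∀ k ∈ [SemidirectProduct.inr upperU, SemidirectProduct.inr lowerU, SemidirectProduct.inl H3.gx,
      SemidirectProduct.inl H3.gy], k * m = m * k) →
    m = 1 ∨ m = emb (1, 0, 0) ∨ m = (emb (1, 0, 0))⁻¹ := by decide +kernel

theorem cube_cases : ∀ m : M, InS m →
    m * (m * m) = emb (1, 0, 0) ∨ m * (m * m) = (emb (1, 0, 0))⁻¹ ∨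
      ∃ A : SL23, InJ (SemidirectProduct.inr A * m * (SemidirectProduct.inr A)⁻¹) := by decide +kernel

theorem upper_normalizer : ∀ A : SL23, A * upperU * A⁻¹ = U 0 ∨ A * upperU * A⁻¹ = U 1 ∨
    A * upperU * A⁻¹ = U 2 → A * (A * A) = 1 → A = U 0 ∨ A = U 1 ∨ A = U 2 := by decide +kernel

theorem S0_center_a : ∀ m : M, InS m → (∀ v : V, m * emb v = emb v * m) → m * gM = gM * m →
    m = 1 ∨ m = emb (1, 0, 0) ∨ m = (emb (1, 0, 0))⁻¹ := fun m hm hv hg => by
  have h := S0_center m hm (hv _) hg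
  rw [h]
  have : ∀ c : PSpThree.K, emb (c, 0, 0) = 1 ∨ emb (c, 0, 0) = emb (1, 0, 0) ∨
      emb (c, 0, 0) = (emb (1, 0, 0))⁻¹ := by decide +kernel
  exact this _

variable {G : Type*} [Group G]

/-- The configuration from the hypotheses. -/
theorem exists_pre [Finite G] {a : G} (ha : orderOf a = 3) {C : Subgroup G}
    (hC : C = centralizer ({a} : Set G)) (hR : IsExtraspecial 3 (pCore 3 C))
    (hRcard : Nat.card (pCore 3 C) = 27) (hRexp : ∀ r ∈ pCore 3 C, r ^ 3 = 1)
    (e : C ⧸ pCore 3 C ≃* Matrix.SpecialLinearGroup (Fin 2) (ZMod 3))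
    (J : Subgroup G) (hJC : J ≤ C) (hJcomm : IsMulCommutative J) (hJexp : ∀ j ∈ J, j ^ 3 = 1)
    (hJcard : Nat.card J = 27)
    (hJsig : ∀ K : Subgroup G, (Nat.card K).Coprime 3 →
      (∀ j ∈ J, K.map (MulAut.conj j).toMonoidHom = K) → K = ⊥) :
    ∃ P : Pre G, P.θ.range = C ∧ (P.θ (emb (1, 0, 0)) = a ∨ P.θ (emb (1, 0, 0)) = a⁻¹) ∧
      (P.θ.comp embHom).range = J := by
  classical
  have : Fact (Nat.Prime 3) := ⟨Nat.prime_three⟩
  have : Fact (Nat.Prime 2) := ⟨Nat.prime_two⟩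
  have hsigJ : ∀ K : Subgroup G, (Nat.card K).Coprime 3 → J ≤ normalizer (K : Set G) → K = ⊥ :=
    fun K h3 hn => hJsig K h3 fun x hx => mem_normalizer_iff_map_conj_eq.1 (hn hx)
  let π : C →* SL23 := e.toMonoidHom.comp (QuotientGroup.mk' (pCore 3 C))
  have hker : π.ker = pCore 3 C := by
    ext x
    rw [MonoidHom.mem_ker]
    show e (QuotientGroup.mk' _ x) = 1 ↔ _
    rw [MulEquiv.map_eq_one_iff, QuotientGroup.mk'_apply, QuotientGroup.eq_one_iff]
  have hsurj : Function.Surjective π := e.surjective.comp (QuotientGroup.mk'_surjective _)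
  have hO2 : pCore 2 C = ⊥ := by
    refine le_bot_iff.1 (sSup_le ?_)
    rintro W ⟨hW, hW2⟩
    have h0 : W.map C.subtype = ⊥ := by
      refine hsigJ _ ?_ fun x hx => ?_
      · obtain ⟨n, hn⟩ := hW2.exists_card_eq
        rw [card_map_of_injective C.subtype_injective, hn]
        exact Nat.Coprime.pow_left n (by norm_num)
      · refine mem_normalizer_fintype fun y hy => ?_
        obtain ⟨w, hw, rfl⟩ := hy
        exact ⟨⟨x, hJC hx⟩ * w * ⟨x, hJC hx⟩⁻¹, hW.conj_mem w hw _, rfl⟩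
    intro w hw
    have h : (w : G) ∈ W.map C.subtype := ⟨w, hw, rfl⟩
    rw [h0, mem_bot] at h
    exact mem_bot.2 (Subtype.ext h)
  set E := J.subgroupOf C
  obtain ⟨ψ⟩ := nonempty_mulEquiv hO2 hR hRcard hRexp hker hsurj (E := E)
    (fun x hx y hy => Subtype.ext
      (congrArg Subtype.val (hJcomm.is_comm.comm ⟨(x : G), hx⟩ ⟨(y : G), hy⟩) :))
    (fun x hx => Subtype.ext (by simpa using hJexp x hx))
    (by rw [Nat.card_congr (subgroupOfEquivOfLe hJC).toEquiv, hJcard])
  let θ₀ : M →* G := C.subtype.comp ψ.toMonoidHom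
  have hinj₀ : Function.Injective θ₀ := C.subtype_injective.comp ψ.injective
  have hθ₀ : ∀ g ∈ C, ∃ m, θ₀ m = g := fun g hg =>
    ⟨ψ.symm ⟨g, hg⟩, congrArg Subtype.val (ψ.apply_symm_apply _)⟩
  have hin₀ : ∀ m, θ₀ m ∈ C := fun m => (ψ m).2
  have hcenC : ∀ g ∈ C, g * a = a * g := fun g hg =>
    mem_centralizer_singleton_iff.1 (hC ▸ hg)
  -- the distinguished element
  obtain ⟨ma, hma⟩ := hθ₀ a (hC ▸ mem_centralizer_singleton_iff.2 rfl)
  have hza : θ₀ (emb (1, 0, 0)) = a ∨ θ₀ (emb (1, 0, 0)) = a⁻¹ := by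
    rcases model_center ma (fun k _ => hinj₀ (by
      rw [map_mul, map_mul, hma]; exact hcenC _ (hin₀ k))) with h | h | h
    · rw [h, map_one] at hma
      rw [← hma, orderOf_one] at ha
      omega
    · exact Or.inl (h ▸ hma)
    · exact Or.inr (by rw [← hma, h, map_inv, inv_inv])
  have hca : ∀ g, Commute g (θ₀ (emb (1, 0, 0))) → g ∈ C := fun g hg => by
    rw [hC, mem_centralizer_singleton_iff]
    rcases hza with h | h <;> rw [h] at hg
    · exact hg.eq
    · exact (Commute.inv_right_iff.1 hg).eq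
  -- adjusting to `J`
  set A := J.comap θ₀
  have hJr : J ≤ θ₀.range := fun x hx => hθ₀ x (hJC hx)
  have hAmap : A.map θ₀ = J := map_comap_eq_self hJr
  obtain ⟨g, hg⟩ := exists_conj_J0 A
    (fun x hx y hy => hinj₀ (by
      rw [map_mul, map_mul]
      exact congrArg Subtype.val (hJcomm.is_comm.comm ⟨θ₀ x, hx⟩ ⟨θ₀ y, hy⟩)))
    (fun x hx => hinj₀ (by rw [map_pow, map_one, hJexp _ hx]))
    (by rw [← card_map_of_injective hinj₀, hAmap, hJcard])
  let c : M →* M := (MulAut.conj g⁻¹).toMonoidHom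
  have hc : ∀ x, c x = g⁻¹ * x * g := fun x => by
    show g⁻¹ * x * g⁻¹⁻¹ = _
    rw [inv_inv]
  have hca' : (θ₀.comp c) (emb (1, 0, 0)) = θ₀ (emb (1, 0, 0)) := by
    rw [MonoidHom.comp_apply, hc, mul_assoc, cz_comm', inv_mul_cancel_left]
  have hJeq : ((θ₀.comp c).comp embHom).range = J := by
    ext y
    constructor
    · rintro ⟨v, rfl⟩
      show θ₀ (c (embHom v)) ∈ J
      rw [hc]
      exact (hg _).1 ⟨v, rfl⟩
    · intro hy
      obtain ⟨x, hx, rfl⟩ := (hAmap ▸ hy : y ∈ A.map θ₀)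
      obtain ⟨v, hv⟩ := (hg (g * x * g⁻¹)).2 (by
        rwa [show g⁻¹ * (g * x * g⁻¹) * g = x by group])
      refine ⟨v, ?_⟩
      show θ₀ (c (embHom v)) = θ₀ x
      rw [hv, hc]
      congr 1
      group
  refine ⟨⟨θ₀.comp c, hinj₀.comp (MulEquiv.injective _), fun y hy => ?_, fun N h3 hN =>
    hsigJ N h3 (hJeq ▸ hN)⟩, ?_, hca'.symm ▸ hza, hJeq⟩
  · rw [hca'] at hy
    obtain ⟨m, rfl⟩ := hθ₀ y (hca y hy)
    exact ⟨g * m * g⁻¹, by rw [MonoidHom.comp_apply, hc]; congr 1; group⟩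
  · refine le_antisymm ?_ fun y hy => ?_
    · rintro _ ⟨m, rfl⟩
      exact hin₀ _
    · obtain ⟨m, rfl⟩ := hθ₀ y hy
      exact ⟨g * m * g⁻¹, by rw [MonoidHom.comp_apply, hc]; congr 1; group⟩

namespace Pre

variable (P : Pre G)

/-- Coordinates of `J`. -/
def em (v : V) : G := P.θ (emb v)

/-- The elementary abelian subgroup of order 27. -/
def J : Subgroup G := (P.θ.comp embHom).range

/-- The distinguished element. -/
def z : G := P.em (1, 0, 0)

/-- The Sylow subgroup of the centralizer. -/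
def syl : Subgroup G := S0.map P.θ

theorem mem_J {g : G} : g ∈ P.J ↔ ∃ v, P.em v = g :=
  ⟨fun ⟨v, hv⟩ => ⟨v.toAdd, hv⟩, fun ⟨v, hv⟩ => ⟨Multiplicative.ofAdd v, hv⟩⟩

theorem em_mem (v : V) : P.em v ∈ P.J := P.mem_J.2 ⟨v, rfl⟩

theorem em_inj : Function.Injective P.em := fun _ _ h => emb_inj _ _ (P.inj h)

theorem z_ne_one : P.z ≠ 1 := fun h => by
  have : emb (1, 0, 0) ≠ 1 := by decide +kernel
  exact this (P.inj (h.trans (map_one P.θ).symm))

theorem z_cube : P.z ^ 3 = 1 := by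
  have : emb (1, 0, 0) ^ 3 = 1 := by decide +kernel
  rw [z, em, ← map_pow, this, map_one]

theorem z_ne_inv : P.z ≠ P.z⁻¹ := fun h => by
  have : emb (1, 0, 0) ≠ (emb (1, 0, 0))⁻¹ := by decide +kernel
  exact this (P.inj (by rw [map_inv]; exact h))

theorem commute_z (m : M) : Commute (P.θ m) P.z := by
  show P.θ m * P.θ _ = P.θ _ * P.θ m
  rw [← map_mul, ← map_mul, cz_comm']

theorem model_commute {m n : M} : Commute (P.θ m) (P.θ n) ↔ m * n = n * m := by
  rw [commute_iff_eq, ← map_mul, ← map_mul, P.inj.eq_iff]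

theorem card_J : Nat.card P.J = 27 := by
  have : Nat.card (Multiplicative V) = 27 := by
    rw [Nat.card_eq_fintype_card]; decide +kernel
  rw [← this]
  exact (Nat.card_congr (MonoidHom.ofInjective
    (f := P.θ.comp embHom) fun a b h => P.em_inj (a₁ := a.toAdd) (a₂ := b.toAdd) h).toEquiv).symm

theorem J_cube {g : G} (hg : g ∈ P.J) : g ^ 3 = 1 := by
  obtain ⟨v, rfl⟩ := P.mem_J.1 hg
  have : ∀ v : V, emb v * (emb v * emb v) = 1 := by decide +kernel
  rw [em, ← map_pow, pow_three, this, map_one]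

theorem J_comm : IsMulCommutative P.J := ⟨⟨fun x y => Subtype.ext (by
  obtain ⟨v, hv⟩ := P.mem_J.1 x.2
  obtain ⟨w, hw⟩ := P.mem_J.1 y.2
  show (x : G) * y = y * x
  rw [← hv, ← hw, em, em, ← map_mul, ← map_mul, ← emb_add, ← emb_add, add_comm])⟩⟩

theorem J_isPGroup : IsPGroup 3 P.J := IsPGroup.of_card (n := 3) (by rw [P.card_J]; rfl)

theorem card_syl : Nat.card P.syl = 81 := by
  rw [syl, card_map_of_injective P.inj, ← card_S0, ← Nat.card_eq_finsetCard]
  exact Nat.card_congr (Equiv.subtypeEquivRight fun m => by simp [S0])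

theorem mem_syl {g : G} : g ∈ P.syl ↔ ∃ m, InS m ∧ P.θ m = g := Iff.rfl

theorem J_le_syl : P.J ≤ P.syl := fun g hg => by
  obtain ⟨v, rfl⟩ := P.mem_J.1 hg
  exact ⟨emb v, gens_inS.2 v, rfl⟩

theorem syl_isPGroup : IsPGroup 3 P.syl := IsPGroup.of_card (n := 4) (by rw [P.card_syl]; rfl)

theorem mem_J_of_model {m : M} (h : InJ m) : P.θ m ∈ P.J := by
  obtain ⟨v, rfl⟩ := exists_emb m h
  exact P.em_mem v

theorem mem_J_of_commute {g : G} (h : ∀ x ∈ P.J, g * x = x * g) : g ∈ P.J := by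
  obtain ⟨m, rfl⟩ := P.range g (h _ (P.em_mem _))
  exact P.mem_J_of_model (inJ_cent m (P.model_commute.1 (h _ (P.em_mem (0, 1, 0))))
    (P.model_commute.1 (h _ (P.em_mem (0, 0, 1)))))

theorem syl_center {g : G} (hg : g ∈ P.syl) (h : ∀ x ∈ P.syl, g * x = x * g) :
    g = 1 ∨ g = P.z ∨ g = P.z⁻¹ := by
  obtain ⟨m, hm, rfl⟩ := hg
  have key : ∀ k : M, InS k → m * k = k * m := fun k hk => P.model_commute.1 (h _ ⟨k, hk, rfl⟩)
  rcases S0_center_a m hm (fun v => key _ (gens_inS.2 v)) (key _ gens_inS.1) with h' | h' | h' <;>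
    rw [h']
  · exact Or.inl (map_one _)
  · exact Or.inr (Or.inl rfl)
  · exact Or.inr (Or.inr (map_inv _ _))

variable [Finite G]

/-- `J` is weakly closed in the Sylow subgroup. -/
theorem mem_normalizer {g : G} (hg : ∀ x ∈ P.J, g * x * g⁻¹ ∈ P.syl) :
    g ∈ normalizer (P.J : Set G) := by
  classical
  refine mem_normalizer_fintype fun x hx => ?_
  by_contra hn
  obtain ⟨m, hm, hme⟩ := hg x hx
  have hnJ : ¬ InJ m := fun h => hn (hme ▸ P.mem_J_of_model h)
  refine absurd (inS_big m hm hnJ) (not_lt.2 ?_)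
  choose f hfS hfe using hg
  rw [← P.card_J, ← Nat.card_eq_finsetCard]
  refine Nat.card_le_card_of_injective (fun y => ⟨f y.1 y.2, Finset.mem_filter.2
    ⟨Finset.mem_univ _, hfS _ y.2, ?_, ?_⟩⟩) fun y w h => Subtype.ext ?_
  · refine P.inj ?_
    rw [← pow_three, map_pow, hfe, conj_pow, P.J_cube y.2, mul_one, mul_inv_cancel, map_one]
  · refine P.model_commute.1 ?_
    rw [hme, hfe]
    exact (show Commute x (y : G) from
      congrArg Subtype.val (P.J_comm.is_comm.comm ⟨x, hx⟩ y)).map (MulAut.conj g).toMonoidHom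
  · have h' := congrArg P.θ (congrArg Subtype.val h)
    simp only [hfe] at h'
    exact mul_left_cancel (mul_right_cancel h')

omit [Finite G] in
/-- An element normalizing the Sylow subgroup fixes or inverts the distinguished element. -/
theorem normalizer_syl {g : G} (hg : g ∈ normalizer (P.syl : Set G)) :
    g * P.z * g⁻¹ = P.z ∨ g * P.z * g⁻¹ = P.z⁻¹ := by
  have hz : P.z ∈ P.syl := P.J_le_syl (P.em_mem _)
  rcases P.syl_center ((mem_normalizer_iff.1 hg _).1 hz) (fun x hx => by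
      have h2 : g⁻¹ * x * g ∈ P.syl := by
        simpa using (mem_normalizer_iff.1 (inv_mem hg) x).1 hx
      obtain ⟨m, -, hm⟩ := h2
      have h3 := (hm ▸ P.commute_z m : Commute (g⁻¹ * x * g) P.z).eq
      calc g * P.z * g⁻¹ * x = g * (P.z * (g⁻¹ * x * g)) * g⁻¹ := by group
        _ = _ := by rw [← h3]; group) with h | h | h
  · exact absurd (conj_eq_one_iff.1 h) P.z_ne_one
  · exact Or.inl h
  · exact Or.inr h

/-- The Sylow subgroup of the centralizer is one of the group. -/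
theorem syl_index : ¬ 3 ∣ P.syl.index := by
  have : Fact (Nat.Prime 3) := ⟨Nat.prime_three⟩
  have h := SymNineThree.not_dvd_index_of_normalizer (C := ⊤) le_top P.syl_isPGroup
    fun g _ hg n hn => by
      -- a 3-element normalizing it commutes with `z`
      have hc : Commute g P.z := by
        rcases P.normalizer_syl hg with h | h
        · exact mul_inv_eq_iff_eq_mul.1 h
        · exfalso
          have hodd : ∀ k : ℕ, g ^ (2 * k + 1) * P.z * (g ^ (2 * k + 1))⁻¹ = P.z⁻¹ := by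
            intro k
            induction k with
            | zero => simpa using h
            | succ k ih =>
              rw [show 2 * (k + 1) + 1 = (2 * k + 1) + 2 by ring, pow_add, pow_two, mul_inv_rev, mul_inv_rev,
                show g ^ (2 * k + 1) * (g * g) * P.z * (g⁻¹ * g⁻¹ * (g ^ (2 * k + 1))⁻¹) =
                  g ^ (2 * k + 1) * (g * (g * P.z * g⁻¹) * g⁻¹) * (g ^ (2 * k + 1))⁻¹ by group,
                h, ← conj_inv, h, inv_inv, ih]
          obtain ⟨k, hk⟩ : Odd (3 ^ n) := Odd.pow (by decide)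
          have := hodd k
          rw [← hk, hn] at this
          exact P.z_ne_inv (by simpa using this)
      obtain ⟨m, rfl⟩ := P.range g hc
      have hmS : ∀ k : M, InS k → InS (m * k * m⁻¹) := fun k hk => by
        obtain ⟨k', hk', e⟩ := (mem_normalizer_iff.1 hg _).1 (⟨k, hk, rfl⟩ : P.θ k ∈ P.syl)
        have : m * k * m⁻¹ = k' := P.inj (by rw [e, map_mul, map_mul, map_inv])
        rw [this]; exact hk'
      refine ⟨m, ?_, rfl⟩
      have hm3 : m ^ 3 ^ n = 1 := P.inj (by rw [map_pow, hn, map_one])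
      have h24 : orderOf m.right ∣ 24 := by rw [← card_SL23]; exact orderOf_dvd_natCard _
      refine upper_normalizer m.right ?_ ?_
      · have h := hmS (SemidirectProduct.inr upperU) (by decide +kernel)
        simpa only [InS, SemidirectProduct.mul_right, SemidirectProduct.inv_right,
          SemidirectProduct.right_inr] using h
      · have h1 : orderOf m.right ∣ 3 ^ n := orderOf_dvd_of_pow_eq_one (by
          have := congrArg SemidirectProduct.rightHom hm3
          rwa [map_pow, map_one] at this)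
        rw [← pow_three]
        refine orderOf_dvd_iff_pow_eq_one.1 ((Nat.Coprime.dvd_of_dvd_mul_right ?_
          (show orderOf m.right ∣ 3 * 8 from h24)))
        exact Nat.Coprime.coprime_dvd_left h1 (Nat.Coprime.pow_left n (by norm_num))
  rwa [show (P.syl.subgroupOf ⊤).index = P.syl.index from relIndex_top_right _] at h

/-- Two 3-subgroups can be moved into the Sylow subgroup. -/
theorem exists_conj_syl {Q : Subgroup G} (hQ : IsPGroup 3 Q) :
    ∃ h : G, ∀ x ∈ Q, h * x * h⁻¹ ∈ P.syl := by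
  have : Fact (Nat.Prime 3) := ⟨Nat.prime_three⟩
  obtain ⟨R, hR⟩ := hQ.exists_le_sylow
  obtain ⟨h, hh⟩ := MulAction.exists_smul_eq G R (P.syl_isPGroup.toSylow P.syl_index)
  refine ⟨h, fun x hx => ?_⟩
  have e : ((P.syl_isPGroup.toSylow P.syl_index : Sylow 3 G) : Subgroup G) = P.syl :=
    IsPGroup.toSylow_coe _ _
  rw [← e, ← hh, Sylow.coe_subgroup_smul]
  exact ⟨x, hR hx, rfl⟩

/-- Fusion in `J`. -/
theorem fusion {x y g : G} (hx : x ∈ P.J) (hy : y ∈ P.J) (hg : g * x * g⁻¹ = y) :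
    ∃ h ∈ normalizer (P.J : Set G), h * x * h⁻¹ = y := by
  have : Fact (Nat.Prime 3) := ⟨Nat.prime_three⟩
  set Y := centralizer ({y} : Set G)
  have hcomm : ∀ {u w : G}, u ∈ P.J → w ∈ P.J → Commute u w := fun {u w} hu hw =>
    congrArg Subtype.val (P.J_comm.is_comm.comm ⟨u, hu⟩ ⟨w, hw⟩)
  have hJY : P.J ≤ Y := fun u hu => mem_centralizer_singleton_iff.2 (hcomm hu hy).eq
  set J' := P.J.map (MulAut.conj g).toMonoidHom
  have hJ'Y : J' ≤ Y := by
    rintro _ ⟨u, hu, rfl⟩
    refine mem_centralizer_singleton_iff.2 ?_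
    rw [← hg]
    exact ((hcomm hu hx).map (MulAut.conj g).toMonoidHom).eq
  obtain ⟨T, hT⟩ := (P.J_isPGroup.comap_subtype (K := Y)).exists_le_sylow
  obtain ⟨R, hR⟩ := ((P.J_isPGroup.map (MulAut.conj g).toMonoidHom).comap_subtype (K := Y)).exists_le_sylow
  obtain ⟨c, hc⟩ := MulAction.exists_smul_eq Y R T
  set T' := (T : Subgroup Y).map Y.subtype
  obtain ⟨h, hh⟩ := P.exists_conj_syl (Q := T') (T.isPGroup'.map _)
  have hhN : h ∈ normalizer (P.J : Set G) :=
    P.mem_normalizer fun u hu => hh _ ⟨⟨u, hJY hu⟩, hT (mem_subgroupOf.2 hu), rfl⟩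
  have h2 : h * (c : G) * g ∈ normalizer (P.J : Set G) := by
    refine P.mem_normalizer fun u hu => ?_
    have hu' : g * u * g⁻¹ ∈ J' := ⟨u, hu, rfl⟩
    have h3 : (c : G) * (g * u * g⁻¹) * (c : G)⁻¹ ∈ T' := by
      refine ⟨c * ⟨_, hJ'Y hu'⟩ * c⁻¹, ?_, rfl⟩
      rw [← hc, Sylow.coe_subgroup_smul]
      exact ⟨⟨_, hJ'Y hu'⟩, hR (mem_subgroupOf.2 hu'), rfl⟩
    have := hh _ h3
    simpa [mul_assoc] using this
  refine ⟨(c : G) * g, ?_, ?_⟩
  · have := mul_mem (inv_mem hhN) h2
    simpa [mul_assoc] using this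
  · have hcy : (c : G) * y = y * c := mem_centralizer_singleton_iff.1 c.2
    calc (c : G) * g * x * ((c : G) * g)⁻¹ = c * (g * x * g⁻¹) * (c : G)⁻¹ := by group
      _ = y := by rw [hg, hcy, mul_inv_cancel_right]

end Pre

end Cfsg.Agent.PSpThreeReal
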