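import Cfsg.Agent.Lib.PSpThree.Amalgam.Main
import Cfsg.Agent.Lib.PSpThreeReal.Pre
import Cfsg.Agent.Lib.SymNineThree.NoInverter

/-!
# The non-real case: a normal subgroup of index three, or `PSp₄(3)`
-/

set_option autoImplicit false
set_option maxRecDepth 100000
set_option synthInstance.maxSize 2000

namespace Cfsg.Agent.PSpThreeReal

open Cfsg Subgroup
open PSpThree PSpThree.Loc

/-- A character of the model onto a group of order three. -/
def modelChar : M →* Multiplicative PSpThree.K :=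
  MonoidHom.mk' (fun m => Multiplicative.ofAdd (chi m.right)) fun m n => by
    rw [SemidirectProduct.mul_right, chi_mul, ofAdd_add]

theorem inS_U : ∀ z : PSpThree.K, InS (SemidirectProduct.inr (U z) : M) := by decide +kernel

theorem chi_surj : ∀ c : PSpThree.K, ∃ z : PSpThree.K, chi (U z) = c := by decide +kernel

namespace Pre

variable {G : Type*} [Group G] (P : Pre G)

theorem modelChar_conj (k m : M) : modelChar (k * m * k⁻¹) = modelChar m := by
  rw [map_mul, map_mul, map_inv, mul_inv_cancel_comm]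

variable [Finite G]

/-- Without fusion of `z` in `N(J)` the character is invariant under fusion. -/
theorem char_invariant (hreal : ∀ g : G, g * P.z * g⁻¹ ≠ P.z⁻¹)
    (hnf : ∀ h ∈ normalizer (P.J : Set G), Commute h P.z) {m m' : M} (hm : InS m) (hm' : InS m')
    {g : G} (h : g * P.θ m * g⁻¹ = P.θ m') : modelChar m' = modelChar m := by
  have hfin : ∀ g : G, Commute g P.z → g * P.θ m * g⁻¹ = P.θ m' → modelChar m' = modelChar m := by
    intro g hg he
    obtain ⟨k, rfl⟩ := P.range g hg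
    rw [← map_mul, ← map_inv, ← map_mul] at he
    rw [← P.inj he, modelChar_conj]
  -- cubes
  have hcube : g * P.θ (m * (m * m)) * g⁻¹ = P.θ (m' * (m' * m')) := by
    rw [← pow_three, ← pow_three, map_pow, map_pow, ← h, conj_pow]
  have hcase : ∀ k : M, InS k → P.θ (k * (k * k)) = P.z ∨ P.θ (k * (k * k)) = P.z⁻¹ ∨
      (P.θ (k * (k * k)) = 1 ∧ ∃ A : SL23,
        InJ (SemidirectProduct.inr A * k * (SemidirectProduct.inr A)⁻¹)) := by
    intro k hk
    rcases cube_cases k hk with e | e | ⟨A, hA⟩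
    · exact Or.inl (congrArg P.θ e)
    · exact Or.inr (Or.inl ((congrArg P.θ e).trans (map_inv _ _)))
    · refine Or.inr (Or.inr ⟨?_, A, hA⟩)
      have h3 := P.J_cube (P.mem_J_of_model hA)
      rwa [map_mul, map_mul, map_inv, conj_pow, conj_eq_one_iff, ← map_pow, pow_three] at h3
  have hz : (g * P.z * g⁻¹ = P.z ∨ g * P.z * g⁻¹ = P.z⁻¹) → modelChar m' = modelChar m := by
    rintro (e | e)
    · exact hfin g (mul_inv_eq_iff_eq_mul.1 e) h
    · exact absurd e (hreal g)
  have hinv : ∀ {x : G}, g * P.z⁻¹ * g⁻¹ = x → g * P.z * g⁻¹ = x⁻¹ := fun {x} e => by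
    rw [← e]; group
  rcases hcase m hm with e | e | ⟨e, A, hA⟩ <;>
    rcases hcase m' hm' with e' | e' | ⟨e', A', hA'⟩ <;> rw [e, e'] at hcube
  · exact hz (Or.inl hcube)
  · exact hz (Or.inr hcube)
  · exact absurd (conj_eq_one_iff.1 hcube) P.z_ne_one
  · exact hz (Or.inr (hinv hcube))
  · exact hz (Or.inl (by simpa using hinv hcube))
  · exact absurd (inv_eq_one.1 (conj_eq_one_iff.1 hcube)) P.z_ne_one
  · rw [mul_one, mul_inv_cancel] at hcube
    exact absurd hcube.symm P.z_ne_one
  · rw [mul_one, mul_inv_cancel] at hcube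
    exact absurd (inv_eq_one.1 hcube.symm) P.z_ne_one
  · set k := (SemidirectProduct.inr A : M)
    set k' := (SemidirectProduct.inr A' : M)
    have h1 : (P.θ k' * g * (P.θ k)⁻¹) * P.θ (k * m * k⁻¹) * (P.θ k' * g * (P.θ k)⁻¹)⁻¹ =
        P.θ (k' * m' * k'⁻¹) := by
      simp only [map_mul, map_inv, ← h]
      group
    obtain ⟨n, hn, hne⟩ := P.fusion (P.mem_J_of_model hA) (P.mem_J_of_model hA') h1
    obtain ⟨l, rfl⟩ := P.range n (hnf n hn)
    have h2 : l * (k * m * k⁻¹) * l⁻¹ = k' * m' * k'⁻¹ :=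
      P.inj (by rw [← hne, map_mul, map_mul, map_inv])
    have := congrArg modelChar h2
    rw [modelChar_conj, modelChar_conj, modelChar_conj] at this
    exact this.symm

/-- The non-real case. -/
theorem nonreal (hreal : ∀ g : G, g * P.z * g⁻¹ ≠ P.z⁻¹) {F : Type*} [Field F] [Fintype F]
    (hF : Fintype.card F = 3) :
    (∃ N : Subgroup G, N.Normal ∧ N.index = 3) ∨ Nonempty (G ≃* Cfsg.PSp 2 F) := by
  by_cases hfus : ∃ h ∈ normalizer (P.J : Set G), ¬ Commute h P.z
  · let L : PSpThree.Loc.Local G :=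
      { θ := P.θ, inj := P.inj, range := P.range, real := hreal, sig := P.sig, fus := hfus }
    exact Or.inr (L.equiv_psp hF)
  push Not at hfus
  left
  have : Fact (Nat.Prime 3) := ⟨Nat.prime_three⟩
  set eq := S0.equivMapOfInjective P.θ P.inj
  let χ : P.syl →* Multiplicative PSpThree.K :=
    modelChar.comp (S0.subtype.comp eq.symm.toMonoidHom)
  have hχ : ∀ (m : M) (hm : InS m) (h : P.θ m ∈ P.syl), χ ⟨_, h⟩ = modelChar m := fun m hm h => by
    have : eq.symm ⟨P.θ m, h⟩ = ⟨m, hm⟩ := eq.symm_apply_eq.2 rfl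
    show modelChar ((eq.symm ⟨P.θ m, h⟩ : S0) : M) = _
    rw [this]
  obtain ⟨L, -, hn, hLP, hdec⟩ := SymNineThree.exists_sylow_kernel (C := ⊤) (le_top : P.syl ≤ ⊤)
    P.syl_isPGroup (by rw [show (P.syl.subgroupOf ⊤).index = P.syl.index from relIndex_top_right _]
                       exact P.syl_index) χ
    fun q g hq _ hgq => by
      obtain ⟨m, hm, rfl⟩ := hq
      obtain ⟨m', hm', hme⟩ := id hgq
      have : (⟨_, hgq⟩ : P.syl) = ⟨P.θ m', ⟨m', hm', rfl⟩⟩ := Subtype.ext hme.symm
      refine (congrArg χ this).trans ((hχ m' hm' _).trans ?_)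
      refine Eq.trans ?_ (hχ m hm _).symm
      exact P.char_invariant hreal hfus hm hm' hme.symm
  haveI : L.Normal := normalizer_eq_top_iff.1 (top_le_iff.1 hn)
  refine ⟨L, inferInstance, ?_⟩
  let f : P.syl →* G ⧸ L := (QuotientGroup.mk' L).comp P.syl.subtype
  have hf : Function.Surjective f := fun q => by
    obtain ⟨c, rfl⟩ := QuotientGroup.mk'_surjective L q
    obtain ⟨p, hp, l, hl, rfl⟩ := hdec c (mem_top c)
    exact ⟨⟨p, hp⟩, QuotientGroup.eq.2 (by simpa using hl)⟩
  have hker : f.ker = χ.ker := by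
    ext p
    rw [MonoidHom.mem_ker, MonoidHom.mem_ker, ← hLP]
    exact QuotientGroup.eq_one_iff _
  have hχs : Function.Surjective χ := fun c => by
    obtain ⟨z, hz⟩ := chi_surj c.toAdd
    have hS : InS (SemidirectProduct.inr (U z) : M) := inS_U z
    refine ⟨⟨P.θ (SemidirectProduct.inr (U z)), ⟨_, hS, rfl⟩⟩, ?_⟩
    refine (hχ _ hS _).trans ?_
    show Multiplicative.ofAdd (chi (U z)) = c
    rw [hz]
    rfl
  rw [index_eq_card, ← Nat.card_congr (QuotientGroup.quotientKerEquivOfSurjective f hf).toEquiv, hker,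
    Nat.card_congr (QuotientGroup.quotientKerEquivOfSurjective χ hχs).toEquiv, Nat.card_congr Multiplicative.toAdd,
    Nat.card_zmod]

end Pre

end Cfsg.Agent.PSpThreeReal
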