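import Cfsg.Agent.Lib.PSpThreeReal.Calc
import Cfsg.Agent.Lib.SymNineThree.Centralizers

/-!
# Centralizers of the points of `J` in the real case

* `Real.exists_mu`, `Real.map_conj_space`, `Real.le_normalizer_of_three`: the normalizer of `J`
* `Real.exists_kernel_space`, `Real.cent_pair`, `Real.exists_plane`: the criteria
* `Real.cent_or_axis`: every centralizer is in `N(J)`, but for the orbit of the distinguished point and the axes
-/

set_option autoImplicit false
set_option synthInstance.maxSize 8000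
set_option synthInstance.maxHeartbeats 200000

namespace Cfsg.Agent.PSpThreeReal

open Cfsg Subgroup
open SymNineThree
open ThreeCubedSymFour (V3)
open Multiplicative (ofAdd toAdd)

universe u

variable {G : Type u} [Group G] {W : Subgroup Mon} {j : Multiplicative V3 →* G} {s : W →* G} {k : Fin 4}
  {Pr : Pre G}

section

variable [Finite G]

/-- An abelian 3-subgroup of the normalizer of order 27 is the space. -/
theorem Real.eq_space [Finite G] (E : Real W j s k Pr) {A : Subgroup G}
    (hA : A ≤ normalizer (j.range : Set G)) (hcomm : IsMulCommutative A) (h3 : IsPGroup 3 A)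
    (h27 : 27 ≤ Nat.card A) : A = j.range := by
  classical
  refine eq_of_le_of_card_ge (fun g hg => ?_) (by rw [E.card_space]; exact h27)
  obtain ⟨v, m, hm, rfl⟩ := E.exists_normal_form (hA hg)
  by_cases hm1 : m = 1
  · subst hm1; exact el_mem_range v
  exfalso
  obtain ⟨n, hn⟩ := h3 ⟨_, hg⟩
  have hm3 : m * m * m = 1 := by
    rw [← E.cube_of_el hm (v := v) (n := n) (by simpa using congrArg Subtype.val hn), pow_succ, pow_two]
  obtain ⟨hfix, hcen⟩ := fixed_of_three m hm3 hm1
  choose fv fm hfm hf using fun a : A => E.exists_normal_form (hA a.2)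
  have hc : ∀ a : A, (fm a * fm a * fm a = 1 ∧ fm a * m = m * fm a) := fun a => by
    refine ⟨?_, ?_⟩
    · obtain ⟨n, hn⟩ := h3 a
      rw [← E.cube_of_el (hfm a) (v := fv a) (n := n) (by rw [← hf a]; simpa using congrArg Subtype.val hn),
        pow_succ, pow_two]
    · have := congrArg Subtype.val (hcomm.is_comm.comm a ⟨_, hg⟩)
      simp only [Subgroup.coe_mul, hf a] at this
      exact ((E.el_comm_iff (hfm a) hm).1 this).2
  have hcard : Nat.card A ≤ 9 := by
    let F := Finset.univ.filter fun u : V3 => act m u = u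
    let N := Finset.univ.filter fun n : Mon => n * n * n = 1 ∧ n * m = m * n
    have key : ∀ a b : A, fm a = fm b → fv a - fv b ∈ F := fun a b e => by
      have h1 : el j s (fv a - fv b) 1 ∈ A := by
        have h2 : el j s (fv a - fv b) 1 * (b : G) = a := by
          rw [hf a, hf b, E.el_mul (one_mem W) (hfm b), act_one, one_mul, sub_add_cancel, e]
        rw [eq_mul_inv_of_mul_eq h2]
        exact mul_mem a.2 (inv_mem b.2)
      have h2 := congrArg Subtype.val (hcomm.is_comm.comm ⟨_, hg⟩ ⟨_, h1⟩)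
      exact Finset.mem_filter.2 ⟨Finset.mem_univ _, (E.el_comm_space hm).1 h2⟩
    obtain ⟨rep, hrep⟩ : ∃ rep : Mon → V3, ∀ a : A, fv a - rep (fm a) ∈ F := by
      refine ⟨fun n => if h : ∃ b : A, fm b = n then fv h.choose else 0, fun a => ?_⟩
      have hex : ∃ b : A, fm b = fm a := ⟨a, rfl⟩
      simp only [dif_pos hex]
      exact key _ _ hex.choose_spec.symm
    refine le_trans (Nat.card_le_card_of_injective
      (fun a : A => ((⟨fm a, Finset.mem_filter.2 ⟨Finset.mem_univ _, hc a⟩⟩ : N),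
        (⟨fv a - rep (fm a), hrep a⟩ : F))) ?_) (le_of_eq ?_)
    · intro a b e
      simp only [Prod.mk.injEq, Subtype.mk.injEq] at e
      obtain ⟨e1, e2⟩ := e
      rw [e1, sub_left_inj] at e2
      exact Subtype.ext (by rw [hf a, hf b, e1, e2])
    · rw [Nat.card_prod, Nat.card_eq_fintype_card, Nat.card_eq_fintype_card, Fintype.card_coe,
        Fintype.card_coe, hfix, hcen]
  omega

/-- Conjugates of the space inside its normalizer. -/
theorem Real.map_conj_space [Finite G] (E : Real W j s k Pr) {g : G}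
    (h : ∀ p ∈ j.range, g * p * g⁻¹ ∈ normalizer (j.range : Set G)) :
    g ∈ normalizer (j.range : Set G) := by
  refine mem_normalizer_iff_map_conj_eq.2 (E.eq_space ?_ ?_ ?_ ?_)
  · rintro _ ⟨p, hp, rfl⟩
    exact h p hp
  · have := E.space_comm
    exact map_isMulCommutative _ _
  · exact E.space_isPGroup.map _
  · rw [card_map_of_injective (MulAut.conj g).injective, E.card_space]

/-- A 3-subgroup containing the space normalizes it. -/
theorem Real.le_normalizer_of_three [Finite G] (E : Real W j s k Pr) {P : Subgroup G}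
    (hP : IsPGroup 3 P) (hJP : j.range ≤ P) : P ≤ normalizer (j.range : Set G) := by
  have : Fact (Nat.Prime 3) := ⟨Nat.prime_three⟩
  intro g hg
  by_contra hgn
  haveI := hP.isNilpotent
  have hlt : (normalizer (j.range : Set G)).subgroupOf P < ⊤ :=
    lt_top_iff_ne_top.2 fun e => hgn (subgroupOf_eq_top.1 e hg)
  obtain ⟨u, huN, hun⟩ := SetLike.exists_of_lt (normalizerCondition_of_isNilpotent _ hlt)
  refine hun (mem_subgroupOf.2 (E.map_conj_space fun p hp => ?_))
  exact mem_subgroupOf.1 ((mem_normalizer_iff.1 huN ⟨p, hJP hp⟩).1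
    (mem_subgroupOf.2 (le_normalizer hp)))

/-- A subgroup of the normalizer containing the space has no further normalizer. -/
theorem Real.le_of_normal [Finite G] (E : Real W j s k Pr) {N M : Subgroup G}
    (hMN : M ≤ normalizer (N : Set G)) (hJN : j.range ≤ N) (hN : N ≤ normalizer (j.range : Set G)) :
    M ≤ normalizer (j.range : Set G) := fun g hg =>
  E.map_conj_space fun p hp => hN ((mem_normalizer_iff.1 (hMN hg) p).1 (hJN hp))

end

/-- The projection on the automizer. -/
theorem Real.exists_mu (E : Real W j s k Pr) :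
    ∃ μ : normalizer (j.range : Set G) →* Mon,
      ∀ v m, m ∈ W → ∀ h : el j s v m ∈ normalizer (j.range : Set G), μ ⟨_, h⟩ = m := by
  have h1 : ∀ g : normalizer (j.range : Set G), ∃ m : Mon, ∃ v, m ∈ W ∧ (g : G) = el j s v m := fun g => by
    obtain ⟨v, m, hm, e⟩ := E.exists_normal_form g.2
    exact ⟨m, v, hm, e⟩
  choose f vf hf he using h1
  refine ⟨MonoidHom.mk' f fun a b => ?_, fun v m hm h => ?_⟩
  · have e := he (a * b)
    rw [Subgroup.coe_mul, he a, he b, E.el_mul (hf a) (hf b)] at e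
    exact (E.el_injective (mul_mem (hf a) (hf b)) (hf _) e).2.symm
  · exact (E.el_injective hm (hf _) (he ⟨_, h⟩)).2.symm

theorem Real.mem_planeSub (E : Real W j s k Pr) {F : V3 →+ V3} {u : V3} :
    el j s u 1 ∈ planeSub j F ↔ F u = 0 := by
  rw [el_one_right]
  constructor
  · rintro ⟨w, hw, e⟩
    obtain rfl := E.inj e
    exact congrArg toAdd (MonoidHom.mem_ker.1 hw)
  · intro h
    exact ⟨ofAdd u, MonoidHom.mem_ker.2 (congrArg ofAdd h), rfl⟩

theorem Real.exists_planeSub (E : Real W j s k Pr) {F : V3 →+ V3} {g : G} (hg : g ∈ planeSub j F) :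
    ∃ u, F u = 0 ∧ g = el j s u 1 := by
  obtain ⟨u, rfl⟩ := exists_el (s := s) (planeSub_le F hg)
  exact ⟨u, E.mem_planeSub.1 hg, rfl⟩

theorem Real.card_planeSub (E : Real W j s k Pr) (F : V3 →+ V3) :
    Nat.card (planeSub j F) = (Finset.univ.filter fun u : V3 => F u = 0).card := by
  rw [planeSub, card_map_of_injective E.inj, ← Fintype.card_subtype, ← Nat.card_eq_fintype_card]
  exact Nat.card_congr ⟨fun u => ⟨u.1.toAdd, congrArg toAdd (MonoidHom.mem_ker.1 u.2)⟩,
    fun u => ⟨ofAdd u.1, MonoidHom.mem_ker.2 (congrArg ofAdd u.2)⟩, fun _ => rfl, fun _ => rfl⟩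

section

variable [Finite G]

/-- The kernel of an invariant linear map. -/
theorem Real.exists_kernel_space (E : Real W j s k Pr) {C P : Subgroup G} (hPC : P ≤ C) (hPJ : P ≤ j.range)
    (hidx : ¬ 3 ∣ (P.subgroupOf C).index) (F : V3 →+ V3)
    (hinv : ∀ n ∈ C, n ∈ normalizer (P : Set G) → ∀ u, el j s u 1 ∈ P →
      ∃ v, n * el j s u 1 * n⁻¹ = el j s v 1 ∧ F v = F u) :
    ∃ L : Subgroup G, L ≤ C ∧ C ≤ normalizer (L : Set G) ∧
      (∀ u, el j s u 1 ∈ P → (el j s u 1 ∈ L ↔ F u = 0)) ∧
      ∀ c ∈ C, ∃ p ∈ P, ∃ l ∈ L, c = p * l := by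
  let e := MonoidHom.ofInjective E.inj
  let χ : P →* Multiplicative V3 :=
    ((AddMonoidHom.toMultiplicative F).comp e.symm.toMonoidHom).comp (inclusion hPJ)
  have hχ : ∀ u (h : el j s u 1 ∈ P), χ ⟨_, h⟩ = ofAdd (F u) := by
    intro u h
    have : e.symm ⟨el j s u 1, hPJ h⟩ = ofAdd u := by
      rw [MulEquiv.symm_apply_eq]
      exact Subtype.ext (el_one_right u)
    show AddMonoidHom.toMultiplicative F (e.symm ⟨el j s u 1, hPJ h⟩) = _
    rw [this]
    rfl
  have hcomm : IsMulCommutative P := ⟨⟨fun a b => Subtype.ext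
    (congrArg Subtype.val (E.space_comm.is_comm.comm ⟨a, hPJ a.2⟩ ⟨b, hPJ b.2⟩) :)⟩⟩
  obtain ⟨L, hLC, hn, hLP, hdec⟩ := exists_kernel hPC (E.space_isPGroup.to_le hPJ) hcomm hidx χ
    (fun n hn hnP p h => by
      obtain ⟨p, hp⟩ := p
      obtain ⟨u, rfl⟩ := exists_el (s := s) (hPJ hp)
      obtain ⟨v, hv, hF⟩ := hinv n hn hnP u hp
      have : (⟨_, h⟩ : P) = ⟨el j s v 1, hv ▸ h⟩ := Subtype.ext hv
      rw [this, hχ, hχ, hF])
  refine ⟨L, hLC, hn, fun u hu => ?_, hdec⟩
  rw [hLP ⟨_, hu⟩, hχ]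
  exact ⟨fun h => congrArg toAdd h, fun h => by rw [h, ofAdd_zero]⟩

/-- A trivial automizer leaves only `P Ω`. -/
theorem Real.le_of_trivial_automizer (E : Real W j s k Pr) {C P Ω : Subgroup G} (hPC : P ≤ C)
    (hPJ : P ≤ j.range) (hidx : ¬ 3 ∣ (P.subgroupOf C).index)
    (htriv : ∀ n ∈ C, n ∈ normalizer (P : Set G) → ∀ u, el j s u 1 ∈ P →
      n * el j s u 1 * n⁻¹ = el j s u 1)
    (hS : Sig P C Ω) : ∀ c ∈ C, ∃ p ∈ P, ∃ z ∈ Ω, c = p * z := by
  obtain ⟨L, hLC, hn, hLP, hdec⟩ := E.exists_kernel_space hPC hPJ hidx (AddMonoidHom.id V3)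
    fun n hn hnP u hu => ⟨u, htriv n hn hnP u hu, rfl⟩
  have hint : Nat.card (P ⊓ L : Subgroup G) = 3 ^ 0 := by
    rw [pow_zero, Subgroup.card_eq_one, eq_bot_iff_forall]
    intro g hg
    obtain ⟨u, rfl⟩ := exists_el (s := s) (hPJ hg.1)
    rw [show u = 0 from (hLP u hg.1).1 hg.2, el_zero_one]
  have hL := not_nine_dvd hPC hLC hn hdec hidx hint
  have hLΩ : L ≤ Ω := hS L hLC (fun p hp => hn (hPC hp))
    ((Nat.Prime.coprime_iff_not_dvd Nat.prime_three).2 (by simpa using hL)).symm
  intro c hc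
  obtain ⟨p, hp, l, hl, e⟩ := hdec c hc
  exact ⟨p, hp, l, hLΩ hl, e⟩

end

theorem Real.mem_cent_el (E : Real W j s k Pr) {m : Mon} (hm : m ∈ W) {w v : V3} :
    el j s w m ∈ centralizer ({el j s v 1} : Set G) ↔ act m v = v :=
  mem_centralizer_singleton_iff.trans (E.el_comm_space hm)

theorem Real.space_le_cent (E : Real W j s k Pr) (v : V3) :
    j.range ≤ centralizer ({el j s v 1} : Set G) := fun q hq => mem_centralizer_singleton_iff.2
  (congrArg Subtype.val (E.space_comm.is_comm.comm ⟨q, hq⟩ ⟨_, el_mem_range v⟩) :)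

theorem Real.sm_sq (E : Real W j s k Pr) {m : Mon} (hm : m ∈ W) (h : m * m = 1) :
    el j s 0 m * el j s 0 m = 1 := by
  rw [E.el_mul hm hm, show act m (0 : V3) = 0 from (actAdd m).map_zero, add_zero, h, el_zero_one]

variable [Finite G]

/-- Normal forms in a centralizer. -/
theorem Real.stab_of_mem (E : Real W j s k Pr) {v p : V3} {g : G}
    (hg : g ∈ normalizer (j.range : Set G))
    (h : g ∈ centralizer ({el j s v 1} : Set G) ⊓ centralizer ({el j s p 1} : Set G)) :
    ∃ w m, m ∈ W ∧ m ∈ SymNineThree.stab k v p ∧ g = el j s w m := by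
  obtain ⟨w, m, hm, rfl⟩ := E.exists_normal_form hg
  exact ⟨w, m, hm, mem_stab.2 ⟨(E.kind m).1 hm, (E.mem_cent_el hm).1 h.1, (E.mem_cent_el hm).1 h.2⟩, rfl⟩

theorem Real.mem_of_stab (E : Real W j s k Pr) {v p : V3} {m : Mon} (h : m ∈ SymNineThree.stab k v p) : m ∈ W :=
  E.mem (mem_stab.1 h).1

variable [Finite G]

/-- The space is a Sylow subgroup when the automizer has no element of order three. -/
theorem Real.space_index (E : Real W j s k Pr) {C : Subgroup G} (hJC : j.range ≤ C)
    (h : ∀ w m, m ∈ W → el j s w m ∈ C → m * m * m = 1 → m = 1) :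
    ¬ 3 ∣ (j.range.subgroupOf C).index :=
  not_dvd_index_of_normalizer hJC E.space_isPGroup fun g hg hgN n hn => by
    obtain ⟨w, m, hm, rfl⟩ := E.exists_normal_form hgN
    rw [h w m hm hg (by rw [← E.cube_of_el hm hn, pow_succ, pow_two])]
    exact el_mem_range w

/-- Trivial automizer. -/
theorem Real.le_space_of_trivial (E : Real W j s k Pr) {C : Subgroup G} (hJC : j.range ≤ C)
    (h : ∀ w m, m ∈ W → el j s w m ∈ C → m = 1) : C ≤ j.range := by
  intro c hc
  obtain ⟨p, hp, z, hz, rfl⟩ := E.le_of_trivial_automizer hJC le_rfl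
    (E.space_index hJC fun w m hm hC _ => h w m hm hC) (Ω := ⊥)
    (fun n hn hnN u _ => by
      obtain ⟨w, m, hm, rfl⟩ := E.exists_normal_form hnN
      rw [h w m hm hn, E.el_conj (one_mem W), act_one])
    (E.sig.mono le_top) c hc
  rw [mem_bot.1 hz, mul_one]
  exact hp

/-- Automizer generated by a reflection. -/
theorem Real.le_of_reflection (E : Real W j s k Pr) {C : Subgroup G} (hJC : j.range ≤ C) {m₀ : Mon}
    (hm₀ : m₀ ∈ W) (h2 : m₀ * m₀ = 1) (hC₀ : el j s 0 m₀ ∈ C)
    (h : ∀ w m, m ∈ W → el j s w m ∈ C → m = 1 ∨ m = m₀) {d : V3} (hd : d ≠ 0)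
    (hd₀ : d + act m₀ d = 0) (hker : ∀ u, u + act m₀ u = 0 → u = 0 ∨ u = d ∨ u = -d) :
    C ≤ normalizer (j.range : Set G) := by
  have hneg : act m₀ d = -d := eq_neg_of_add_eq_zero_right hd₀
  have hidx := E.space_index hJC fun w m hm hC h3 => by
    rcases h w m hm hC with rfl | rfl
    · rfl
    · rwa [h2, one_mul] at h3
  obtain ⟨L, hLC, hn, hLP, hdec⟩ := E.exists_kernel_space hJC le_rfl hidx
    (AddMonoidHom.id V3 + actAdd m₀) fun n hn hnN u _ => by
      obtain ⟨w, m, hm, rfl⟩ := E.exists_normal_form hnN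
      refine ⟨act m u, E.el_conj hm w u, ?_⟩
      rcases h w m hm hn with rfl | rfl
      · rw [act_one]
      · show act m u + act m (act m u) = u + act m u
        rw [← act_mul, h2, act_one, add_comm]
  have hdL : el j s d 1 ∈ L := (hLP d (el_mem_range d)).2 hd₀
  have hord : orderOf (el j s d 1) = 3 := by
    have : Fact (Nat.Prime 3) := ⟨Nat.prime_three⟩
    exact orderOf_eq_prime (E.space_cube (el_mem_range d))
      fun e => hd ((E.el_eq_one_iff (one_mem W)).1 e).1
  have hmem : ∀ g ∈ j.range, g ∈ L → g ∈ zpowers (el j s d 1) := by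
    intro g hg hgL
    obtain ⟨u, rfl⟩ := exists_el (s := s) hg
    rcases hker u ((hLP u hg).1 hgL) with rfl | rfl | rfl
    · rw [el_zero_one]; exact one_mem _
    · exact mem_zpowers _
    · have : el j s (-d) 1 = (el j s d 1)⁻¹ := by
        rw [E.el_inv (one_mem W), inv_one, act_one]
      rw [this]; exact inv_mem (mem_zpowers _)
  have hint : Nat.card (j.range ⊓ L : Subgroup G) = 3 ^ 1 := by
    rw [pow_one]
    refine Eq.trans ?_ hord
    rw [← Nat.card_zpowers]
    refine congrArg (fun K : Subgroup G => Nat.card K) (le_antisymm (fun g hg => hmem g hg.1 hg.2) ?_)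
    exact zpowers_le.2 ⟨el_mem_range d, hdL⟩
  have hCd : C ⊓ centralizer ({el j s d 1} : Set G) ≤ j.range :=
    E.le_space_of_trivial (le_inf hJC (E.space_le_cent d)) fun w m hm hC => by
      rcases h w m hm hC.1 with rfl | rfl
      · rfl
      · exfalso
        have := (E.mem_cent_el hm).1 hC.2
        rw [hneg] at this
        have key : ∀ d : V3, -d = d → d = 0 := by decide +kernel
        exact hd (key d this)
  intro c hc
  have hcy := conj_mem_of_line (Ω := ⊥) E.space_isPGroup (IsPGroup.of_bot) (E.sig.mono le_top) hLC hn hJC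
    bot_le (fun g _ => by rw [normalizer_eq_top_iff.2 (inferInstance)]; exact mem_top g) hdL hord
    (fun z hz => by rw [mem_bot.1 hz, one_mul, mul_one])
    (not_nine_dvd hJC hLC hn hdec hidx hint)
    (fun g hg hgd => by
      obtain ⟨i, hi⟩ := mem_zpowers_iff.1 (hmem g (hCd ⟨hLC hg, mem_centralizer_singleton_iff.2 hgd⟩) hg)
      obtain ⟨n, hn⟩ := (mem_powers_iff_mem_zpowers (G := G)).2
        (show g⁻¹ ∈ zpowers (el j s d 1) from inv_mem (mem_zpowers_iff.2 ⟨i, hi⟩))
      exact ⟨n, by rw [show el j s d 1 ^ n = g⁻¹ from hn, mul_inv_cancel]; exact one_mem _⟩) hc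
  rcases hcy with e | e
  · exact le_normalizer (hCd ⟨hc, mem_centralizer_singleton_iff.2 (mul_inv_eq_iff_eq_mul.1 e)⟩)
  · set t := el j s 0 m₀
    have ht : t * (el j s d 1)⁻¹ * t⁻¹ = el j s d 1 := by
      rw [E.el_inv (one_mem W), inv_one, act_one, E.el_conj hm₀]
      congr 1
      have := (actAdd m₀).map_neg d
      rw [show actAdd m₀ (-d) = act m₀ (-d) from rfl, show actAdd m₀ d = act m₀ d from rfl, hneg, neg_neg]
        at this
      exact this
    have h1 : t * c ∈ j.range := hCd ⟨C.mul_mem hC₀ hc, mem_centralizer_singleton_iff.2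
      (mul_inv_eq_iff_eq_mul.1 (by
        calc t * c * el j s d 1 * (t * c)⁻¹ = t * (c * el j s d 1 * c⁻¹) * t⁻¹ := by group
          _ = _ := by rw [e, ht]))⟩
    have := mul_mem (inv_mem (E.el_mem_normalizer hm₀ 0)) (le_normalizer h1)
    rwa [inv_mul_cancel_left] at this

/-- The common centralizer of two points with small automizer. -/
theorem Real.cent_pair (E : Real W j s k Pr) {v p : V3} (h : Simple k v p) :
    centralizer ({el j s v 1} : Set G) ⊓ centralizer ({el j s p 1} : Set G) ≤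
      normalizer (j.range : Set G) := by
  set C := centralizer ({el j s v 1} : Set G) ⊓ centralizer ({el j s p 1} : Set G) with hC
  have hJC : j.range ≤ C := le_inf (E.space_le_cent v) (E.space_le_cent p)
  have hst : ∀ w m, m ∈ W → el j s w m ∈ C → m ∈ SymNineThree.stab k v p := fun w m hm hg => mem_stab.2
    ⟨(E.kind m).1 hm, (E.mem_cent_el hm).1 hg.1, (E.mem_cent_el hm).1 hg.2⟩
  rcases h with h | ⟨h, hk⟩
  · obtain ⟨x, hx⟩ := Finset.card_eq_one.1 h
    refine (E.le_space_of_trivial hJC fun w m hm hg => ?_).trans le_normalizer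
    have h1 := hst w m hm hg
    have h2 : (1 : Mon) ∈ SymNineThree.stab k v p := one_mem_stab
    rw [hx, Finset.mem_singleton] at h1 h2
    rw [h1, h2]
  · obtain ⟨m₀, hm₀, hne⟩ := Finset.exists_mem_ne (by omega : 1 < (SymNineThree.stab k v p).card) 1
    have hall : ∀ m ∈ SymNineThree.stab k v p, m = 1 ∨ m = m₀ := by
      intro m hm
      by_contra hh
      push Not at hh
      have hsub : ({1, m₀, m} : Finset Mon) ⊆ SymNineThree.stab k v p := by
        intro x hx
        simp only [Finset.mem_insert, Finset.mem_singleton] at hx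
        rcases hx with rfl | rfl | rfl
        exacts [one_mem_stab, hm₀, hm]
      have := Finset.card_le_card hsub
      rw [Finset.card_eq_three.2 ⟨1, m₀, m, hne.symm, hh.1.symm, hh.2.symm, rfl⟩] at this
      omega
    have h2 : m₀ * m₀ = 1 :=
      (hall _ (mul_mem_stab hm₀ hm₀)).resolve_right fun e => hne (mul_eq_left.1 e)
    have hsum : ∀ u, normFun k v p u = u + act m₀ u := by
      intro u
      have e : SymNineThree.stab k v p = {1, m₀} := by
        refine (Finset.eq_of_subset_of_card_le ?_ ?_).symm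
        · intro x hx
          simp only [Finset.mem_insert, Finset.mem_singleton] at hx
          rcases hx with rfl | rfl
          exacts [one_mem_stab, hm₀]
        · rw [h, Finset.card_pair hne.symm]
      rw [normFun, e, Finset.sum_pair hne.symm, act_one]
    have hm₀W := E.mem_of_stab hm₀
    obtain ⟨d, hd, hd0⟩ := Finset.exists_mem_ne (by omega : 1 < (normKer k v p).card) 0
    have hd' : d + act m₀ d = 0 := by rw [← hsum]; exact mem_normKer.1 hd
    refine E.le_of_reflection hJC hm₀W h2 ⟨(E.mem_cent_el hm₀W).2 (mem_stab.1 hm₀).2.1,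
      (E.mem_cent_el hm₀W).2 (mem_stab.1 hm₀).2.2⟩ (fun w m hm hg => hall m (hst w m hm hg)) hd0 hd'
      fun u hu => ?_
    have key : ∀ d : V3, d ≠ 0 → d ≠ -d := by decide +kernel
    have e : normKer k v p = {0, d, -d} := by
      refine (Finset.eq_of_subset_of_card_le ?_ ?_).symm
      · intro x hx
        simp only [Finset.mem_insert, Finset.mem_singleton] at hx
        rcases hx with rfl | rfl | rfl
        · exact mem_normKer.2 (map_zero _)
        · exact hd
        · exact mem_normKer.2 (by rw [map_neg, mem_normKer.1 hd, neg_zero])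
      · rw [hk, Finset.card_eq_three.2 ⟨0, d, -d, hd0.symm, (neg_ne_zero.2 hd0).symm, key d hd0, rfl⟩]
    have h1 : u ∈ normKer k v p := mem_normKer.2 (by rw [normMap_apply, hsum]; exact hu)
    rw [e] at h1
    simpa using h1

/-- The plane kernel at a point. -/
theorem Real.exists_plane (E : Real W j s k Pr) {v : V3} (h3 : ∀ m ∈ SymNineThree.stab k v v, m * m * m = 1 → m = 1)
    (h9 : (normKer k v v).card = 9) (hv : normFun k v v v ≠ 0) :
    ∃ L : Subgroup G, L ≤ centralizer ({el j s v 1} : Set G) ∧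
      centralizer ({el j s v 1} : Set G) ≤ normalizer (L : Set G) ∧
      Loc L (planeSub j (normMap k v v)) ⊥ ∧ Nat.card (planeSub j (normMap k v v)) = 9 ∧
      (∀ g ∈ j.range, g ∈ L → g ∈ planeSub j (normMap k v v)) ∧
      (∀ g ∈ centralizer ({el j s v 1} : Set G), g * g = 1 → g ∈ L) ∧
      (∀ c ∈ centralizer ({el j s v 1} : Set G), ∃ i : ℕ, ∃ l ∈ L, c = el j s v 1 ^ i * l) ∧
      (∀ g ∈ centralizer ({el j s v 1} : Set G), g ∈ normalizer (planeSub j (normMap k v v) : Set G) →
        g ∈ normalizer (j.range : Set G)) ∧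
      (∀ g ∈ normalizer (j.range : Set G), g ∈ centralizer ({el j s v 1} : Set G) →
        g ∈ normalizer (planeSub j (normMap k v v) : Set G)) := by
  set C := centralizer ({el j s v 1} : Set G)
  set F := normMap k v v
  set P := planeSub j F with hPdef
  have hJC : j.range ≤ C := E.space_le_cent v
  have hst : ∀ {g}, g ∈ normalizer (j.range : Set G) → g ∈ C →
      ∃ w m, m ∈ W ∧ m ∈ SymNineThree.stab k v v ∧ g = el j s w m := fun hg hgC => E.stab_of_mem hg ⟨hgC, hgC⟩
  have hidx : ¬ 3 ∣ (j.range.subgroupOf C).index := E.space_index hJC fun w m hm hg h =>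
    h3 m (mem_stab.2 ⟨(E.kind m).1 hm, (E.mem_cent_el hm).1 hg, (E.mem_cent_el hm).1 hg⟩) h
  obtain ⟨L, hLC, hn, hLP, hdec⟩ := E.exists_kernel_space hJC le_rfl hidx F fun n hn hnN u _ => by
    obtain ⟨w, m, hm, hms, rfl⟩ := hst hnN hn
    exact ⟨act m u, E.el_conj hm w u, normMap_act hms u⟩
  have hPL : P ≤ L := fun g hg => by
    obtain ⟨u, hu, rfl⟩ := E.exists_planeSub hg
    exact (hLP u (el_mem_range u)).2 hu
  have hLJ : ∀ g ∈ j.range, g ∈ L → g ∈ P := fun g hg hgL => by
    obtain ⟨u, rfl⟩ := exists_el (s := s) hg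
    exact E.mem_planeSub.2 ((hLP u hg).1 hgL)
  have hcardP : Nat.card P = 9 := by
    rw [hPdef, E.card_planeSub, ← h9, normKer]
    rfl
  -- `J` is `<v> P`
  let f : Fin 3 × normKer k v v → V3 := fun x => (x.1 : ℕ) • v + (x.2 : V3)
  have hf : Function.Bijective f := by
    rw [Fintype.bijective_iff_injective_and_card]
    refine ⟨fun x y e => ?_, ?_⟩
    · have e1 := congrArg F e
      simp only [f, map_add, map_nsmul] at e1
      rw [show F (x.2 : V3) = 0 from mem_normKer.1 x.2.2, show F (y.2 : V3) = 0 from mem_normKer.1 y.2.2, add_zero, add_zero] at e1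
      have key : ∀ w : V3, w ≠ 0 → ∀ a b : Fin 3, (a : ℕ) • w = (b : ℕ) • w → a = b := by decide +kernel
      have h1 := key (F v) hv _ _ e1
      refine Prod.ext h1 (Subtype.ext ?_)
      have e2 := e
      simp only [f, h1, add_right_inj] at e2
      exact e2
    · rw [Fintype.card_prod, Fintype.card_coe, h9, Fintype.card_fin]
      decide +kernel
  have hpow : ∀ i : ℕ, el j s v 1 ^ i = el j s (i • v) 1 := fun i => by
    rw [el_one_right, el_one_right, ← map_pow, ofAdd_nsmul]
  have hJdec : ∀ g ∈ j.range, ∃ i : ℕ, ∃ q ∈ P, g = el j s v 1 ^ i * q := by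
    intro g hg
    obtain ⟨u, rfl⟩ := exists_el (s := s) hg
    obtain ⟨⟨i, q⟩, rfl⟩ := hf.2 u
    refine ⟨i, el j s q 1, E.mem_planeSub.2 (mem_normKer.1 q.2), ?_⟩
    rw [hpow, E.el_mul (one_mem W) (one_mem W), act_one, one_mul]
  have hdec' : ∀ c ∈ C, ∃ i : ℕ, ∃ l ∈ L, c = el j s v 1 ^ i * l := fun c hc => by
    obtain ⟨p, hp, l, hl, rfl⟩ := hdec c hc
    obtain ⟨i, q, hq, rfl⟩ := hJdec p hp
    exact ⟨i, q * l, mul_mem (hPL hq) hl, by rw [mul_assoc]⟩
  have hNP : ∀ g ∈ C, g ∈ normalizer (P : Set G) → g ∈ normalizer (j.range : Set G) := by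
    intro g hg hgP
    refine E.map_conj_space fun p hp => le_normalizer ?_
    obtain ⟨i, q, hq, rfl⟩ := hJdec p hp
    have e : g * (el j s v 1 ^ i * q) * g⁻¹ = el j s v 1 ^ i * (g * q * g⁻¹) := by
      rw [← mul_assoc, ((show Commute g (el j s v 1) from
        mem_centralizer_singleton_iff.1 hg).pow_right i).eq]
      group
    rw [e]
    exact mul_mem (pow_mem (el_mem_range v) i) (planeSub_le F ((mem_normalizer_iff.1 hgP q).1 hq))
  have hPN : ∀ g ∈ normalizer (j.range : Set G), g ∈ C → g ∈ normalizer (P : Set G) := by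
    intro g hg hgC
    obtain ⟨w, m, hm, hms, rfl⟩ := hst hg hgC
    refine mem_normalizer_iff_map_conj_eq.2 (eq_of_le_of_card_ge ?_
      (by rw [card_map_of_injective (MulAut.conj (el j s w m)).injective]))
    rintro _ ⟨q, hq, rfl⟩
    obtain ⟨u, hu, rfl⟩ := E.exists_planeSub hq
    show el j s w m * el j s u 1 * (el j s w m)⁻¹ ∈ P
    rw [E.el_conj hm]
    exact E.mem_planeSub.2 (by rw [normMap_act hms]; exact hu)
  refine ⟨L, hLC, hn, ⟨hPL, ?_, fun p hp => E.space_cube (planeSub_le F hp), ?_, ?_, bot_le,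
    fun g _ => by rw [normalizer_eq_top_iff.2 (inferInstance)]; exact mem_top g,
    fun z hz p _ => by rw [mem_bot.1 hz, one_mul, mul_one], by simp, fun g hgL hgP => ?_,
    fun K hKL hPK hK => ?_⟩, hcardP, hLJ, fun g hg hg2 => ?_, hdec', hNP, hPN⟩
  · exact ⟨⟨fun a b => Subtype.ext (congrArg Subtype.val
      (E.space_comm.is_comm.comm ⟨a, planeSub_le F a.2⟩ ⟨b, planeSub_le F b.2⟩) :)⟩⟩
  · intro hc
    obtain ⟨g, hg⟩ := hc.exists_generator
    have h1 := orderOf_eq_card_of_forall_mem_zpowers hg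
    rw [hcardP] at h1
    have h2 : g ^ 3 = 1 := Subtype.ext (by simpa using E.space_cube (planeSub_le F g.2))
    have := orderOf_dvd_of_pow_eq_one h2
    rw [h1] at this
    norm_num at this
  · refine not_dvd_index_of_normalizer hPL (E.space_isPGroup.to_le (planeSub_le F)) fun g hg hgP n hn => ?_
    obtain ⟨w, m, hm, hms, rfl⟩ := hst (hNP g (hLC hg) hgP) (hLC hg)
    have : m = 1 := h3 m hms (by rw [← E.cube_of_el hm hn, pow_succ, pow_two])
    subst this
    exact hLJ _ (el_mem_range w) hg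
  · refine ⟨g, ?_, 1, one_mem _, (mul_one g).symm⟩
    refine hLJ g (E.cent_space fun u => ?_) hgL
    obtain ⟨i, q, hq, hu⟩ := hJdec _ (el_mem_range (s := s) u)
    rw [hu]
    exact (((show Commute g (el j s v 1) from mem_centralizer_singleton_iff.1 (hLC hgL)).pow_right i).mul_right
      (show Commute g q from (hgP q hq).symm)).eq
  · refine E.sig K le_top (fun p hp => ?_) hK
    obtain ⟨i, q, hq, rfl⟩ := hJdec p hp
    refine mul_mem (pow_mem ?_ i) (hPK hq)
    refine mem_normalizer_iff.2 fun x => ⟨fun hx => ?_, fun hx => ?_⟩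
    · have hc : x * el j s v 1 = el j s v 1 * x := mem_centralizer_singleton_iff.1 (hLC (hKL hx))
      rwa [← hc, mul_inv_cancel_right]
    · have hc : el j s v 1 * x * (el j s v 1)⁻¹ * el j s v 1 = el j s v 1 * (el j s v 1 * x * (el j s v 1)⁻¹) :=
        mem_centralizer_singleton_iff.1 (hLC (hKL hx))
      rw [inv_mul_cancel_right] at hc
      have h2 : x = el j s v 1 * x * (el j s v 1)⁻¹ := mul_left_cancel hc
      rwa [← h2] at hx
  · exact mem_kernel hJC hn E.space_isPGroup hdec hg (k := 2) (by rw [pow_two, hg2]) (by norm_num)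

/-- Every centralizer is in the normalizer, but for the orbit of the distinguished point and the axes. -/
theorem Real.cent_or_axis (E : Real W j s k Pr) {v : V3} (hv : v ≠ 0) :
    (∃ m, m ∈ W ∧ (act m v = ones ∨ act m v = -ones)) ∨ centralizer ({el j s v 1} : Set G) ≤ normalizer (j.range : Set G) ∨ (k = 3 ∧ Axis v) := by
  rcases point_patterns k v hv with ⟨m, hm, hmv⟩ | h | h | ⟨h2, h9, hN⟩ | ⟨h4, h9, hN, hsq, hp⟩
  · exact Or.inl ⟨m, E.mem hm, hmv⟩
  · exact Or.inr (Or.inr h)
  · refine Or.inr (Or.inl ?_)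
    have := E.cent_pair h
    rwa [inf_idem] at this
  · refine Or.inr (Or.inl ?_)
    obtain ⟨L, hLC, -, hloc, -, hLJ, hinv, hdec, hNP, hPN⟩ :=
      E.exists_plane (fun m hm h3 => eq_one_of_small (by omega) hm h3) h9 hN
    obtain ⟨m₀, hm₀, hne⟩ := Finset.exists_mem_ne (by omega : 1 < (SymNineThree.stab k v v).card) 1
    have hall : SymNineThree.stab k v v = {1, m₀} := by
      refine (Finset.eq_of_subset_of_card_le ?_ ?_).symm
      · intro x hx
        simp only [Finset.mem_insert, Finset.mem_singleton] at hx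
        rcases hx with rfl | rfl
        exacts [one_mem_stab, hm₀]
      · rw [h2, Finset.card_pair hne.symm]
    have hm2 : m₀ * m₀ = 1 := by
      have := mul_mem_stab hm₀ hm₀
      rw [hall] at this
      simp only [Finset.mem_insert, Finset.mem_singleton] at this
      exact this.resolve_right fun e => hne (mul_eq_left.1 e)
    have hmW := E.mem_of_stab hm₀
    have htC : el j s 0 m₀ ∈ centralizer ({el j s v 1} : Set G) :=
      (E.mem_cent_el hmW).2 (mem_stab.1 hm₀).2.1
    have htL : el j s 0 m₀ ∈ L := hinv _ htC (E.sm_sq hmW hm2)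
    have hle : L ≤ normalizer (planeSub j (normMap k v v) : Set G) := by
      refine hloc.le_normalizer_inverted htL (fun p hp => ?_) (E.sm_sq hmW hm2) fun n hn hnP => ?_
      · obtain ⟨u, hu, rfl⟩ := E.exists_planeSub hp
        rw [E.el_conj hmW, E.el_inv (one_mem W), inv_one, act_one]
        rw [normMap_apply, normFun, hall, Finset.sum_pair hne.symm, act_one] at hu
        rw [eq_neg_of_add_eq_zero_right hu]
      · obtain ⟨w, m, hm, hms, rfl⟩ := E.stab_of_mem (hNP n (hLC hn) hnP) ⟨hLC hn, hLC hn⟩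
        rw [hall] at hms
        simp only [Finset.mem_insert, Finset.mem_singleton] at hms
        rcases hms with rfl | rfl
        · exact Or.inl ⟨_, hLJ _ (el_mem_range w) hn, 1, one_mem _, (mul_one _).symm⟩
        · have e : el j s w m * el j s 0 m = el j s w 1 := by
            rw [E.el_mul hm hm, show act m (0 : V3) = 0 from (actAdd m).map_zero, add_zero, hm2]
          exact Or.inr ⟨_, hLJ _ (el_mem_range w) (e ▸ mul_mem hn htL), 1, one_mem _, by rw [mul_one, e]⟩
    intro c hc
    obtain ⟨i, l, hl, rfl⟩ := hdec c hc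
    exact mul_mem (le_normalizer (pow_mem (el_mem_range v) i)) (hNP l (hLC hl) (hle hl))
  · refine Or.inr (Or.inl ?_)
    have h3 : ∀ m ∈ SymNineThree.stab k v v, m * m * m = 1 → m = 1 := fun m hm h => by rwa [hsq m hm, one_mul] at h
    obtain ⟨L, hLC, -, hloc, hcard, hLJ, hinv, hdec, hNP, hPN⟩ := E.exists_plane h3 h9 hN
    obtain ⟨a, ha, hane⟩ := Finset.exists_mem_ne (by omega : 1 < (SymNineThree.stab k v v).card) 1
    obtain ⟨b, hb, hb1⟩ : ∃ b ∈ SymNineThree.stab k v v, b ∉ ({1, a} : Finset Mon) := by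
      refine Finset.exists_mem_notMem_of_card_lt_card ?_
      rw [Finset.card_pair hane.symm]
      omega
    simp only [Finset.mem_insert, Finset.mem_singleton, not_or] at hb1
    obtain ⟨hbne, hba⟩ := hb1
    have hab : a * b ≠ 1 ∧ a * b ≠ a ∧ a * b ≠ b :=
      ⟨fun e => hba (mul_left_cancel (e.trans (hsq a ha).symm)), fun e => hbne (mul_eq_left.1 e),
        fun e => hane (mul_eq_right.1 e)⟩
    have hall : SymNineThree.stab k v v = {1, a, b, a * b} := by
      refine (Finset.eq_of_subset_of_card_le ?_ ?_).symm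
      · intro x hx
        simp only [Finset.mem_insert, Finset.mem_singleton] at hx
        rcases hx with rfl | rfl | rfl | rfl
        exacts [one_mem_stab, ha, hb, mul_mem_stab ha hb]
      · rw [h4, Finset.card_insert_of_notMem, Finset.card_eq_three.2 ⟨a, b, a * b, Ne.symm hba,
          hab.2.1.symm, hab.2.2.symm, rfl⟩]
        simp [hane.symm, Ne.symm hbne, hab.1.symm]
    have haW := E.mem_of_stab ha
    have hbW := E.mem_of_stab hb
    have hin : ∀ x, x ∈ SymNineThree.stab k v v → el j s 0 x ∈ centralizer ({el j s v 1} : Set G) ∧ el j s 0 x ∈ L ∧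
        el j s 0 x ∈ normalizer (planeSub j (normMap k v v) : Set G) := fun x hx => by
      have hxW := E.mem_of_stab hx
      have h1 := (E.mem_cent_el hxW (w := (0 : V3))).2 (mem_stab.1 hx).2.1
      exact ⟨h1, hinv _ h1 (E.sm_sq hxW (hsq x hx)), hPN _ (E.el_mem_normalizer hxW 0) h1⟩
    have hmulab : el j s 0 a * el j s 0 b = el j s 0 (a * b) := by
      rw [E.el_mul haW hbW, show act a (0 : V3) = 0 from (actAdd a).map_zero, add_zero]
    have hleft : ∀ x ∈ W, ∀ u, el j s 0 x * el j s u 1 = el j s (act x u) x := fun x hx u => by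
      rw [E.el_mul hx (one_mem W), zero_add, mul_one]
    have hsplit : ∀ {w : V3} {x : Mon}, x ∈ W → x ∈ SymNineThree.stab k v v → el j s w x ∈ L →
        ∃ p ∈ planeSub j (normMap k v v), ∃ z ∈ (⊥ : Subgroup G), el j s w x = el j s 0 x * (p * z) := by
      intro w x hx hxs hmem
      refine ⟨(el j s 0 x)⁻¹ * el j s w x, ?_, 1, one_mem _, by rw [mul_one, mul_inv_cancel_left]⟩
      refine hLJ _ ?_ (mul_mem (inv_mem (hin x hxs).2.1) hmem)
      have : (el j s 0 x)⁻¹ * el j s w x = el j s (act x⁻¹ w) 1 := by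
        rw [inv_mul_eq_iff_eq_mul, hleft x hx, ← act_mul, mul_inv_cancel, act_one]
      rw [this]
      exact el_mem_range _
    have hle : L ≤ normalizer (planeSub j (normMap k v v) : Set G) := by
      refine hloc.le_normalizer_klein hcard (hin a ha).2.1 (hin b hb).2.1 (hin a ha).2.2 (hin b hb).2.2
        (fun p hp z hz => ?_) (fun n hn hnP => ?_) (fun n hn hnP => ?_) fun q hq hq1 g hg hgp => ?_
      · obtain ⟨u, -, rfl⟩ := E.exists_planeSub hp
        rw [mem_bot.1 hz, mul_one, hmulab]
        exact ⟨fun e => hane (E.el_injective haW (one_mem W) e).2,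
          fun e => hbne (E.el_injective hbW (one_mem W) e).2,
          fun e => hab.1 (E.el_injective (mul_mem haW hbW) (one_mem W) e).2⟩
      · obtain ⟨w, x, hx, hxs, rfl⟩ := E.stab_of_mem (hNP n (hLC hn) hnP) ⟨hLC hn, hLC hn⟩
        refine ⟨el j s w x * el j s w x, hLJ _ ?_ (mul_mem hn hn), 1, one_mem _, (mul_one _).symm⟩
        rw [E.el_mul hx hx, hsq x hxs]
        exact el_mem_range _
      · obtain ⟨w, x, hx, hxs, rfl⟩ := E.stab_of_mem (hNP n (hLC hn) hnP) ⟨hLC hn, hLC hn⟩
        have hxs' := hxs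
        rw [hall] at hxs'
        simp only [Finset.mem_insert, Finset.mem_singleton] at hxs'
        rcases hxs' with rfl | rfl | rfl | rfl
        · exact Or.inl ⟨_, hLJ _ (el_mem_range w) hn, 1, one_mem _, (mul_one _).symm⟩
        · exact Or.inr (Or.inl (hsplit hx hxs hn))
        · exact Or.inr (Or.inr (Or.inl (hsplit hx hxs hn)))
        · exact Or.inr (Or.inr (Or.inr (hmulab ▸ hsplit hx hxs hn)))
      · obtain ⟨u, hu, rfl⟩ := E.exists_planeSub hq
        exact hPN g (E.cent_pair (hp u (mem_normKer.2 hu) fun e => hq1 (by rw [e, el_zero_one])) ⟨hLC hg, mem_centralizer_singleton_iff.2 hgp⟩)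
          (hLC hg)
    intro c hc
    obtain ⟨i, l, hl, rfl⟩ := hdec c hc
    exact mul_mem (le_normalizer (pow_mem (el_mem_range v) i)) (hNP l (hLC hl) (hle hl))

end Cfsg.Agent.PSpThreeReal
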